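import Groth.Agent.H9DefExt.Fam
import Groth.Agent.H9DefAut.Alg
import Groth.Agent.DefGlueLib.Sections
import Groth.Agent.DefGlueLib.SqExt

/-! The deformation attached to an extension of the differentials. -/

set_option autoImplicit false
set_option linter.style.haveILetI false
set_option backward.isDefEq.respectTransparency false
set_option backward.isDefEq.respectTransparency.types false

universe u

open CategoryTheory CategoryTheory.Limits AlgebraicGeometry TopologicalSpace Opposite ArtFun TrivSqZeroExt

noncomputable section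

namespace Groth.Agent.H9DefExt

open Scheme (AffineZariskiSite)
open Groth.Agent.DefGlueLib

attribute [local instance 10] SqExt.opModule SqExt.opCentral

variable {k : Type u} [Field k]

/-- Coordinates on an object with square-zero maximal ideal. -/
structure SqBasis (C : Art k k) (n : ℕ) where
  /-- the basis of the maximal ideal -/
  y : Fin n → C
  /-- the coordinates -/
  ℓ : C →ₗ[k] (Fin n → k)
  decomp : ∀ c : C, c = algebraMap k C (C.res c) + ∑ i, ℓ c i • y i
  res_y : ∀ i, C.res (y i) = 0
  ℓ_y : ∀ i, ℓ (y i) = Pi.single i 1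
  mul_y : ∀ i j, y i * y j = 0

namespace SqBasis

variable {C : Art k k} {n : ℕ} (S : SqBasis C n)

theorem ℓ_algebraMap (t : k) : S.ℓ (algebraMap k C t) = 0 := by
  have h := congrArg S.ℓ (S.decomp (algebraMap k C t))
  rw [show C.res (algebraMap k C t) = t from C.res.commutes t, map_add, map_sum] at h
  simp only [map_smul, S.ℓ_y] at h
  rw [left_eq_add] at h
  funext j
  have := congrFun h j
  simpa [Pi.single_apply] using this

theorem ℓ_mul (c c' : C) : S.ℓ (c * c') = C.res c • S.ℓ c' + C.res c' • S.ℓ c := by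
  have h : c * c' = algebraMap k C (C.res c * C.res c') +
      ∑ i, (C.res c * S.ℓ c' i + C.res c' * S.ℓ c i) • S.y i := by
    conv_lhs => rw [S.decomp c, S.decomp c']
    have h0 : (∑ i, S.ℓ c i • S.y i) * (∑ i, S.ℓ c' i • S.y i) = 0 := by
      rw [Finset.sum_mul]
      refine Finset.sum_eq_zero fun i _ => ?_
      rw [Finset.mul_sum]
      exact Finset.sum_eq_zero fun j _ => by rw [smul_mul_smul_comm, S.mul_y, smul_zero]
    simp only [Algebra.smul_def, map_add, map_mul, add_mul, mul_assoc, Finset.sum_add_distrib, ← Finset.mul_sum]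
    simp only [Algebra.smul_def] at h0
    linear_combination h0
  rw [h, map_add, S.ℓ_algebraMap, zero_add, map_sum]
  funext j
  simp [S.ℓ_y, Pi.single_apply]

theorem ℓ_eq (c : C) (h : C.res c = 0) : c = ∑ i, S.ℓ c i • S.y i := by
  conv_lhs => rw [S.decomp c, h, map_zero, zero_add]

end SqBasis

variable {X : Scheme.{u}} (x : X ⟶ Spec (CommRingCat.of k)) [QuasiSeparated x]

/-- An extension of the differentials by a free module, on the affine opens. -/
structure ExtFam (n : ℕ) : Type (u + 1) where
  /-- the middle term -/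
  E : X.Modules
  /-- the basis of the kernel -/
  e : ∀ U : AffineZariskiSite X, Fin n → Γ(E, U.toOpens)
  e_map : ∀ {U V : AffineZariskiSite X} (h : V ≤ U) (i : Fin n),
    E.presheaf.map (homOfLE (AffineZariskiSite.toOpens_mono h)).op (e U i) = e V i
  /-- the projection -/
  π : E ⟶ Omega.sheaf x
  π_e : ∀ U i, π.app U.toOpens (e U i) = 0
  inj : ∀ U (f : Fin n → Γ(X, U.toOpens)), ∑ i, f i • e U i = 0 → f = 0
  exact : ∀ U (v : Γ(E, U.toOpens)), π.app U.toOpens v = 0 → ∃ f : Fin n → Γ(X, U.toOpens), ∑ i, f i • e U i = v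
  surj : ∀ U : AffineZariskiSite X, Function.Surjective (π.app U.toOpens)

namespace ExtFam

variable {x} {n : ℕ} (S : ExtFam x n)

/-- The differential. -/
abbrev dU (U : AffineZariskiSite X) (a : Γ(X, U.toOpens)) : Γ(Omega.sheaf x, U.toOpens) :=
  (OmegaSh.dOmega x).app U.toOpens a

omit [QuasiSeparated x] in
theorem app_smul' {F G : X.Modules} (φ : F ⟶ G) (W : X.Opens) (r : Γ(X, W)) (v : Γ(F, W)) :
    φ.app W (r • v) = r • φ.app W v := Scheme.Modules.Hom.app_smul ..

theorem dU_str (U : AffineZariskiSite X) (t : k) :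
    dU (x := x) U (str x U t) = 0 := by
  have h1 := (OmegaSh.dOmega x).d_map (homOfLE (le_top : U.toOpens ≤ x ⁻¹ᵁ ⊤)).op
    (x.app ⊤ ((Scheme.ΓSpecIso (CommRingCat.of k)).inv t))
  erw [(OmegaSh.dOmega x).d_app (X := op ⊤), map_zero] at h1
  exact h1

theorem dU_map {U V : AffineZariskiSite X} (h : V ≤ U) (a : Γ(X, U.toOpens)) :
    dU (x := x) V (X.presheaf.map (homOfLE (AffineZariskiSite.toOpens_mono h)).op a) =
      (Omega.sheaf x).presheaf.map (homOfLE (AffineZariskiSite.toOpens_mono h)).op (dU U a) :=
  (OmegaSh.dOmega x).d_map (homOfLE (AffineZariskiSite.toOpens_mono h)).op a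

/-- The pairs `(a, v)` with `π v = d a`. -/
def ring (U : AffineZariskiSite X) : Subring (TrivSqZeroExt Γ(X, U.toOpens) Γ(S.E, U.toOpens)) where
  carrier := {z | S.π.app U.toOpens (snd z) = dU U (fst z)}
  mul_mem' := fun {z w} hz hw => by
    change S.π.app U.toOpens (snd z) = dU U (fst z) at hz
    change S.π.app U.toOpens (snd w) = dU U (fst w) at hw
    change S.π.app U.toOpens (snd (z * w)) = dU U (fst (z * w))
    rw [snd_mul, fst_mul, op_smul_eq_smul, map_add, app_smul', app_smul', hz, hw]
    exact ((OmegaSh.dOmega x).d_mul (X := op U.toOpens) (fst z) (fst w)).symm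
  one_mem' := by
    change S.π.app U.toOpens (snd (1 : TrivSqZeroExt Γ(X, U.toOpens) Γ(S.E, U.toOpens))) = dU U (fst 1)
    rw [snd_one, fst_one, map_zero]
    exact ((OmegaSh.dOmega x).d_one (X := op U.toOpens)).symm
  add_mem' := fun {z w} hz hw => by
    change S.π.app U.toOpens (snd z) = dU U (fst z) at hz
    change S.π.app U.toOpens (snd w) = dU U (fst w) at hw
    change S.π.app U.toOpens (snd (z + w)) = dU U (fst (z + w))
    rw [snd_add, fst_add, map_add, hz, hw]
    exact (map_add ((OmegaSh.dOmega x).app U.toOpens) _ _).symm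
  zero_mem' := by
    change S.π.app U.toOpens (snd 0) = dU U (fst 0)
    rw [snd_zero, fst_zero, map_zero]
    exact (map_zero ((OmegaSh.dOmega x).app U.toOpens)).symm
  neg_mem' := fun {z} hz => by
    change S.π.app U.toOpens (snd z) = dU U (fst z) at hz
    change S.π.app U.toOpens (snd (-z)) = dU U (fst (-z))
    rw [snd_neg, fst_neg, map_neg, hz]
    exact (map_neg ((OmegaSh.dOmega x).app U.toOpens) _).symm

theorem ring_ext {U : AffineZariskiSite X} {z w : S.ring U} (h₁ : fst z.1 = fst w.1) (h₂ : snd z.1 = snd w.1) :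
    z = w := Subtype.ext (TrivSqZeroExt.ext h₁ h₂)

/-- Restriction. -/
def res {U V : AffineZariskiSite X} (h : V ≤ U) : S.ring U →+* S.ring V :=
  let ρ := X.presheaf.map (homOfLE (AffineZariskiSite.toOpens_mono h)).op
  let σ := S.E.presheaf.map (homOfLE (AffineZariskiSite.toOpens_mono h)).op
  { toFun := fun z => ⟨(inl (ρ (fst z.1)) + inr (σ (snd z.1)) : TrivSqZeroExt Γ(X, V.toOpens) Γ(S.E, V.toOpens)), by
      change S.π.app V.toOpens (snd (inl _ + inr _)) = dU V (fst (inl _ + inr _))
      rw [snd_add, fst_add, snd_inl, snd_inr, fst_inl, fst_inr, zero_add, add_zero, QCoh.map_app_comm,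
        show S.π.app U.toOpens (snd z.1) = dU U (fst z.1) from z.2]
      exact (dU_map h _).symm⟩
    map_one' := S.ring_ext (by simp) (by simp)
    map_mul' := fun z w => S.ring_ext (by simp)
      (by simp [op_smul_eq_smul, σ, ρ, Scheme.Modules.map_smul])
    map_zero' := S.ring_ext (by simp) (by simp)
    map_add' := fun z w => S.ring_ext (by simp) (by simp) }

theorem fst_res {U V : AffineZariskiSite X} (h : V ≤ U) (z : S.ring U) :
    fst (S.res h z).1 = X.presheaf.map (homOfLE (AffineZariskiSite.toOpens_mono h)).op (fst z.1) := by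
  simp [res]

theorem snd_res {U V : AffineZariskiSite X} (h : V ≤ U) (z : S.ring U) :
    snd (S.res h z).1 = S.E.presheaf.map (homOfLE (AffineZariskiSite.toOpens_mono h)).op (snd z.1) := by
  simp [res]

theorem res_id (U : AffineZariskiSite X) (z : S.ring U) : S.res (le_refl U) z = z :=
  S.ring_ext ((S.fst_res _ z).trans (by simp)) ((S.snd_res _ z).trans (by simp))

theorem res_comp {U V W : AffineZariskiSite X} (h : V ≤ U) (h' : W ≤ V) (z : S.ring U) :
    S.res (h'.trans h) z = S.res h' (S.res h z) := by
  refine S.ring_ext ?_ ?_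
  · rw [fst_res, fst_res, fst_res, H9DefAut.res_res]
  · rw [snd_res, snd_res, snd_res, resM_resM]

/-- The first projection. -/
def proj (U : AffineZariskiSite X) : S.ring U →+* Γ(X, U.toOpens) :=
  ((fstHom Γ(X, U.toOpens) Γ(X, U.toOpens) Γ(S.E, U.toOpens)).toRingHom).comp (S.ring U).subtype

theorem π_comb (U : AffineZariskiSite X) (f : Fin n → Γ(X, U.toOpens)) :
    S.π.app U.toOpens (∑ i, f i • S.e U i) = 0 := by
  rw [map_sum]
  exact Finset.sum_eq_zero fun i _ => by rw [app_smul', S.π_e, smul_zero]

theorem exists_lift (U : AffineZariskiSite X) (a : Γ(X, U.toOpens)) : ∃ z : S.ring U, S.proj U z = a := by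
  obtain ⟨v, hv⟩ := S.surj U (dU U a)
  refine ⟨⟨(inl a + inr v : TrivSqZeroExt Γ(X, U.toOpens) Γ(S.E, U.toOpens)), ?_⟩, ?_⟩
  · change S.π.app U.toOpens (snd _) = dU U (fst _)
    simpa using hv
  · simp [proj]

variable {C : Art k k} (B : SqBasis C n)

/-- The structure map. -/
def coeff (U : AffineZariskiSite X) : C →+* S.ring U :=
  let s := str x U
  { toFun := fun c =>
      ⟨(inl (s (C.res c)) + inr (∑ i, s (B.ℓ c i) • S.e U i) : TrivSqZeroExt Γ(X, U.toOpens) Γ(S.E, U.toOpens)), by
        change S.π.app U.toOpens (snd _) = dU U (fst _)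
        simp only [snd_add, snd_inl, snd_inr, zero_add, fst_add, fst_inl, fst_inr, add_zero]
        rw [π_comb, dU_str]⟩
    map_one' := S.ring_ext (by simp) (by
      have h : B.ℓ 1 = 0 := by rw [← map_one (algebraMap k C), B.ℓ_algebraMap]
      simp [h])
    map_mul' := fun c c' => S.ring_ext (by simp) (by
      simp [B.ℓ_mul, op_smul_eq_smul, Finset.smul_sum, smul_smul, add_smul, Finset.sum_add_distrib])
    map_zero' := S.ring_ext (by simp) (by simp)
    map_add' := fun c c' => S.ring_ext (by simp) (by simp [add_smul, Finset.sum_add_distrib]) }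

theorem fst_coeff (U : AffineZariskiSite X) (c : C) : fst (S.coeff B U c).1 = str x U (C.res c) := by
  simp [coeff]

theorem snd_coeff (U : AffineZariskiSite X) (c : C) :
    snd (S.coeff B U c).1 = ∑ i, str x U (B.ℓ c i) • S.e U i := by
  simp [coeff]

theorem snd_coeff_y_mul (U : AffineZariskiSite X) (i : Fin n) (z : S.ring U) :
    snd (S.coeff B U (B.y i) * z).1 = S.proj U z • S.e U i := by
  rw [Subring.coe_mul, snd_mul, fst_coeff, B.res_y, map_zero, zero_smul, zero_add, op_smul_eq_smul, snd_coeff,
    B.ℓ_y, Finset.sum_eq_single i]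
  · rw [Pi.single_eq_same, map_one, one_smul]
    rfl
  · intro j _ hj
    rw [Pi.single_eq_of_ne hj, map_zero, zero_smul]
  · exact fun h => absurd (Finset.mem_univ i) h

theorem res_coeff {U V : AffineZariskiSite X} (h : V ≤ U) (c : C) :
    S.res h (S.coeff B U c) = S.coeff B V c := by
  have hs : ∀ t : k, X.presheaf.map (homOfLE (AffineZariskiSite.toOpens_mono h)).op (str x U t) = str x V t :=
    fun t => RingHom.congr_fun (str_res x h) t
  refine S.ring_ext ?_ ?_
  · rw [fst_res, fst_coeff, fst_coeff, hs]
  · rw [snd_res, snd_coeff, snd_coeff, map_sum]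
    refine Finset.sum_congr rfl fun i _ => ?_
    rw [Scheme.Modules.map_smul, S.e_map h, hs]

theorem isDef (U : AffineZariskiSite X) : IsDef C (str x U) (S.coeff B U) (S.proj U) := by
  let c := str x U
  let a := S.coeff B U
  let q := S.proj U
  let _ := c.toAlgebra
  let b := Module.Free.chooseBasis k Γ(X, U.toOpens)
  choose e he using fun α => S.exists_lift U (b α)
  have hqe : q ∘ e = b := funext he
  have hb : Function.Bijective (comb c (q ∘ e)) := by
    rw [hqe]
    change Function.Bijective (comb (algebraMap k Γ(X, U.toOpens)) b)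
    rw [funext (comb_eq (A := k) b)]
    exact ⟨b.linearIndependent, LinearMap.range_eq_top.1 (by
      rw [Finsupp.range_linearCombination, b.span_eq])⟩
  have hcomm : ∀ t, q (a t) = c (C.res t) := fun t => S.fst_coeff B U t
  have hq : ∀ v, q (comb a e v) = comb c (q ∘ e) (v.mapRange C.res (map_zero _)) :=
    map_comb q C.res.toRingHom hcomm e
  refine isDef_of_comb hb hcomm ⟨?_, fun z => ?_⟩
  · let A : ((Module.Free.ChooseBasisIndex k Γ(X, U.toOpens)) →₀ C) →+ S.ring U :=
      AddMonoidHom.mk' (comb a e) (H9DefAut.comb_add a e)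
    suffices hA : ∀ v, A v = 0 → v = 0 by exact (injective_iff_map_eq_zero A).2 hA
    intro v hv
    have h0 : v.mapRange C.res (map_zero _) = 0 := hb.1 ((hq v).symm.trans
      ((congrArg q hv).trans ((map_zero q).trans (H9DefAut.comb_zero c _).symm)))
    have h0' : ∀ α, C.res (v α) = 0 := fun α => DFunLike.congr_fun h0 α
    have hsnd : snd (comb a e v).1 =
        ∑ i, comb c (q ∘ e) (v.mapRange (fun t => B.ℓ t i) (by simp)) • S.e U i := by
      have h1 : ∀ α, snd (a (v α) * e α).1 = ∑ i, (c (B.ℓ (v α) i) * q (e α)) • S.e U i := fun α => by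
        rw [Subring.coe_mul, snd_mul, fst_coeff, h0', map_zero, zero_smul, zero_add, op_smul_eq_smul,
          snd_coeff, Finset.smul_sum]
        exact Finset.sum_congr rfl fun i _ => by rw [smul_smul, mul_comm]; rfl
      rw [comb, Finsupp.sum]
      simp only [AddSubmonoidClass.coe_finsetSum, snd_sum]
      rw [Finset.sum_congr rfl fun α _ => h1 α, Finset.sum_comm]
      refine Finset.sum_congr rfl fun i _ => ?_
      rw [comb, Finsupp.sum_mapRange_index fun α => by rw [map_zero, zero_mul], Finsupp.sum, Finset.sum_smul]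
      rfl
    have h2 := S.inj U _ (hsnd.symm.trans (by rw [show comb a e v = 0 from hv]; rfl))
    refine Finsupp.ext fun α => ?_
    rw [B.ℓ_eq _ (h0' α), Finsupp.zero_apply]
    refine Finset.sum_eq_zero fun i _ => ?_
    have h3 : v.mapRange (fun t => B.ℓ t i) (by simp) = 0 :=
      hb.1 ((congrFun h2 i).trans (H9DefAut.comb_zero c _).symm)
    rw [show B.ℓ (v α) i = 0 from DFunLike.congr_fun h3 α, zero_smul]
  · obtain ⟨w, hw⟩ := hb.2 (q z)
    obtain ⟨v, rfl⟩ := Finsupp.mapRange_surjective (α := Module.Free.ChooseBasisIndex k Γ(X, U.toOpens))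
      C.res (map_zero _) C.res_surjective w
    have hr : q (z - comb a e v) = 0 := by rw [map_sub, hq, hw, sub_self]
    have hr' : fst (z - comb a e v).1 = 0 := hr
    obtain ⟨f, hf⟩ := S.exact U (snd (z - comb a e v).1) (by
      rw [(z - comb a e v).2, hr']
      exact map_zero ((OmegaSh.dOmega x).app U.toOpens))
    choose w' hw' using fun i => hb.2 (f i)
    choose v' hv' using fun i => Finsupp.mapRange_surjective (α := Module.Free.ChooseBasisIndex k Γ(X, U.toOpens))
      C.res (map_zero _) C.res_surjective (w' i)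
    refine ⟨v + ∑ i, (v' i).mapRange (fun t => B.y i * t) (mul_zero _), ?_⟩
    let A : ((Module.Free.ChooseBasisIndex k Γ(X, U.toOpens)) →₀ C) →+ S.ring U :=
      AddMonoidHom.mk' (comb a e) (H9DefAut.comb_add a e)
    change A _ = z
    rw [map_add, map_sum, ← eq_sub_iff_add_eq']
    change ∑ i, comb a e ((v' i).mapRange _ _) = z - comb a e v
    simp only [H9DefAut.comb_mapRange_mul]
    refine S.ring_ext ?_ ?_
    · simp only [AddSubmonoidClass.coe_finsetSum, fst_sum]
      rw [hr']
      refine Finset.sum_eq_zero fun i _ => ?_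
      rw [Subring.coe_mul, fst_mul, fst_coeff, B.res_y, map_zero, zero_mul]
    · simp only [AddSubmonoidClass.coe_finsetSum, snd_sum]
      rw [← hf]
      refine Finset.sum_congr rfl fun i _ => ?_
      rw [snd_coeff_y_mul, show S.proj U (comb a e (v' i)) = f i from (hq _).trans (by rw [hv', hw'])]

/-- The deformation of the affine pieces. -/
def pdef : PDef x C where
  R :=
    { obj := fun U => CommRingCat.of (S.ring U.unop)
      map := fun {U V} f => CommRingCat.ofHom (S.res f.unop.le)
      map_id := fun U => CommRingCat.hom_ext (RingHom.ext fun z => S.res_id U.unop z)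
      map_comp := fun {U V W} f g =>
        CommRingCat.hom_ext (RingHom.ext fun z => S.res_comp f.unop.le g.unop.le z) }
  a U := S.coeff B U.unop
  a_map f c := S.res_coeff B f.unop.le c
  q :=
    { app := fun U => CommRingCat.ofHom (S.proj U.unop)
      naturality := fun U V f => CommRingCat.hom_ext (RingHom.ext fun z => S.fst_res f.unop.le z) }
  isDef U := S.isDef B U.unop

variable {m : ℕ} {S' : ExtFam x m} {C' : Art k k} {B' : SqBasis C' m}

/-- Morphisms of extensions give morphisms of deformations. -/
def pHom (g : C ⟶ C') (μ : S.E ⟶ S'.E) (hπ : μ ≫ S'.π = S.π)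
    (he : ∀ U i, μ.app U.toOpens (S.e U i) = ∑ j, str x U (B'.ℓ (g (B.y i)) j) • S'.e U j) :
    PHom g (S.pdef B) (S'.pdef B') where
  app :=
    { app := fun U => CommRingCat.ofHom
        { toFun := fun z : S.ring U.unop =>
            (⟨(inl (fst z.1) + inr (μ.app U.unop.toOpens (snd z.1)) :
              TrivSqZeroExt Γ(X, U.unop.toOpens) Γ(S'.E, U.unop.toOpens)), by
              change S'.π.app U.unop.toOpens (snd _) = dU U.unop (fst _)
              simp only [snd_add, snd_inl, snd_inr, zero_add, fst_add, fst_inl, fst_inr, add_zero]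
              exact (congr(($hπ).app U.unop.toOpens (snd z.1))).trans z.2⟩ : S'.ring U.unop)
          map_one' := S'.ring_ext (by simp) (by simp)
          map_mul' := fun z w => S'.ring_ext (by simp) (by simp [op_smul_eq_smul, app_smul'])
          map_zero' := S'.ring_ext (by simp) (by simp)
          map_add' := fun z w => S'.ring_ext (by simp) (by simp) }
      naturality := fun U V f => CommRingCat.hom_ext (RingHom.ext fun z => S'.ring_ext
        (by
          change fst (inl _ + inr _ : TrivSqZeroExt _ _) = fst (S'.res f.unop.le ⟨_, _⟩).1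
          rw [fst_res]
          simp only [fst_add, fst_inl, fst_inr, add_zero]
          exact S.fst_res f.unop.le z)
        (by
          change snd (inl _ + inr _ : TrivSqZeroExt _ _) = snd (S'.res f.unop.le ⟨_, _⟩).1
          rw [snd_res]
          simp only [snd_add, snd_inl, snd_inr, zero_add]
          exact (congrArg _ (S.snd_res f.unop.le z)).trans (QCoh.map_app_comm ..))) }
  comm U c := by
    refine S'.ring_ext ?_ ?_
    · change fst (inl _ + inr _ : TrivSqZeroExt _ _) = fst (S'.coeff B' U.unop (g c)).1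
      rw [fst_coeff, Art.res_app]
      simp only [fst_add, fst_inl, fst_inr, add_zero]
      exact S.fst_coeff B U.unop c
    · change snd (inl _ + inr _ : TrivSqZeroExt _ _) = snd (S'.coeff B' U.unop (g c)).1
      rw [snd_coeff]
      simp only [snd_add, snd_inl, snd_inr, zero_add]
      refine (congrArg _ (S.snd_coeff B U.unop c)).trans ?_
      have hg : B'.ℓ (g c) = ∑ i, B.ℓ c i • B'.ℓ (g (B.y i)) := by
        conv_lhs => rw [B.decomp c]
        change B'.ℓ (g.toAlgHom _) = _
        rw [map_add, map_sum, map_add, AlgHom.commutes, B'.ℓ_algebraMap, zero_add, map_sum]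
        exact Finset.sum_congr rfl fun i _ => by rw [map_smul, map_smul]
      rw [map_sum]
      simp only [app_smul', he, Finset.smul_sum, smul_smul, ← map_mul, hg, Finset.sum_apply, Pi.smul_apply,
        smul_eq_mul, map_sum, Finset.sum_smul]
      rw [Finset.sum_comm]
  q_app := NatTrans.ext (funext fun U => CommRingCat.hom_ext (RingHom.ext fun z => by
    change fst (inl (fst z.1) + inr (μ.app U.unop.toOpens (snd z.1)) :
      TrivSqZeroExt Γ(X, U.unop.toOpens) Γ(S'.E, U.unop.toOpens)) = fst z.1
    simp only [fst_add, fst_inl, fst_inr, add_zero]))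

end ExtFam

end Groth.Agent.H9DefExt
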