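import Groth.Agent.H9DefAut.Der
import Groth.Agent.OmegaUniv.Universal
import Groth.Agent.OmegaUniv.ToSectIso

/-! Linear maps out of the differentials from derivations on the affine pieces. -/

set_option autoImplicit false
set_option linter.style.haveILetI false
set_option backward.isDefEq.respectTransparency false
set_option backward.isDefEq.respectTransparency.types false

universe u

open CategoryTheory AlgebraicGeometry TopologicalSpace Opposite

noncomputable section

namespace Groth.Agent.H9DefExt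

open Scheme (AffineZariskiSite)

variable {X : Scheme.{u}} {F G : X.Modules}

theorem resM_resM {U V W : X.Opens} (h : V ≤ U) (h' : W ≤ V) (s : Γ(F, U)) :
    F.presheaf.map (homOfLE h').op (F.presheaf.map (homOfLE h).op s) =
      F.presheaf.map (homOfLE (h'.trans h)).op s :=
  OmegaSh.resM_resM ..

theorem eq_of_affineM {W : X.Opens} {s t : Γ(F, W)}
    (h : ∀ (U : AffineZariskiSite X) (hle : U.toOpens ≤ W),
      F.presheaf.map (homOfLE hle).op s = F.presheaf.map (homOfLE hle).op t) : s = t := by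
  choose U hpU hle using fun p : W => H9DefAut.exists_affine_le p.2
  refine sub_eq_zero.1 (QCoh.eq_zero_of_locally W _ fun p hp => ⟨(U ⟨p, hp⟩).toOpens, homOfLE (hle ⟨p, hp⟩), hpU _, ?_⟩)
  rw [map_sub, h (U ⟨p, hp⟩) (hle _), sub_self]

theorem hom_ext_affine {φ ψ : F ⟶ G}
    (h : ∀ (U : AffineZariskiSite X) (s : Γ(F, U.toOpens)), φ.app U.toOpens s = ψ.app U.toOpens s) :
    φ = ψ := by
  refine Scheme.Modules.hom_ext _ _ fun W => ?_
  ext s
  refine eq_of_affineM fun U hle => ?_
  rw [← QCoh.map_app_comm, ← QCoh.map_app_comm, h]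

variable {Y : Scheme.{u}} (f : X ⟶ Y) [QuasiSeparated f]

/-- Linear maps out of differentials agree if they agree on exact differentials over affines. -/
theorem omega_hom_ext {θ θ' : Omega.sheaf f ⟶ F}
    (h : ∀ (U : AffineZariskiSite X) (s : Γ(X, U.toOpens)),
      θ.app U.toOpens ((OmegaSh.dOmega f).app U.toOpens s) =
        θ'.app U.toOpens ((OmegaSh.dOmega f).app U.toOpens s)) : θ = θ' := by
  obtain ⟨α, -, hu⟩ := OmegaUniv.isUniversal_dOmega f _ ((OmegaSh.dOmega f).postcomp θ.val)
  rw [hu θ rfl, hu θ' ?_]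
  refine PresheafOfModules.Derivation.ext ?_
  funext W
  refine AddMonoidHom.ext fun s => eq_of_affineM (F := F) (W := W.unop) fun U hle => ?_
  refine (((OmegaSh.dOmega f).postcomp θ'.val).d_map (homOfLE hle).op s).symm.trans
    (Eq.trans ?_ (((OmegaSh.dOmega f).postcomp θ.val).d_map (homOfLE hle).op s))
  exact (h U (X.presheaf.map (homOfLE hle).op s)).symm

end Groth.Agent.H9DefExt

namespace Groth.Agent.H9DefExt

open Scheme (AffineZariskiSite)

variable {k : Type u} [Field k] {X : Scheme.{u}} (x : X ⟶ Spec (CommRingCat.of k))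

/-- Compatible derivations of the affine pieces into a module. -/
structure ModFam (F : X.Modules) where
  /-- the maps -/
  D : ∀ U : AffineZariskiSite X, Γ(X, U.toOpens) → Γ(F, U.toOpens)
  add : ∀ U (s t : Γ(X, U.toOpens)), D U (s + t) = D U s + D U t
  map : ∀ {U V : AffineZariskiSite X} (h : V ≤ U) (s : Γ(X, U.toOpens)),
    D V (X.presheaf.map (homOfLE (AffineZariskiSite.toOpens_mono h)).op s) =
      F.presheaf.map (homOfLE (AffineZariskiSite.toOpens_mono h)).op (D U s)
  mul : ∀ U (s t : Γ(X, U.toOpens)), D U (s * t) = s • D U t + t • D U s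
  str : ∀ U c, D U (DefGlueLib.str x U c) = 0

namespace ModFam

variable {x} {F : X.Modules} (E : ModFam x F)

/-- The glued value. -/
def Rel (W : X.Opens) (s : Γ(X, W)) (t : Γ(F, W)) : Prop :=
  ∀ (U : AffineZariskiSite X) (h : U.toOpens ≤ W),
    E.D U (X.presheaf.map (homOfLE h).op s) = F.presheaf.map (homOfLE h).op t

theorem rel_unique {W : X.Opens} {s : Γ(X, W)} {t t' : Γ(F, W)} (h : E.Rel W s t) (h' : E.Rel W s t') :
    t = t' :=
  eq_of_affineM fun U hle => (h U hle).symm.trans (h' U hle)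

theorem exists_rel (W : X.Opens) (s : Γ(X, W)) : ∃ t, E.Rel W s t := by
  let ι := {U : AffineZariskiSite X // U.toOpens ≤ W}
  obtain ⟨t, ht, -⟩ := TopCat.Sheaf.existsUnique_gluing' ⟨F.presheaf, F.isSheaf⟩ (fun i : ι => i.1.toOpens) W
    (fun i => homOfLE i.2) (fun p hp => by
      obtain ⟨U, hpU, hle⟩ := H9DefAut.exists_affine_le hp
      exact Opens.mem_iSup.2 ⟨⟨U, hle⟩, hpU⟩)
    (fun i => E.D i.1 (X.presheaf.map (homOfLE i.2).op s)) (fun i j => by
      refine sub_eq_zero.1 (QCoh.eq_zero_of_locally (M := F) _ _ fun p hp => ?_)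
      obtain ⟨f, g, hfg, hf⟩ := exists_basicOpen_le_affine_inter i.1.2 j.1.2 p hp
      have hgle : i.1.basicOpen f ≤ j.1 := ⟨g, hfg.symm⟩
      refine ⟨(i.1.basicOpen f).toOpens, homOfLE (le_inf (AffineZariskiSite.toOpens_mono (i.1.basicOpen_le f))
          (AffineZariskiSite.toOpens_mono hgle)), hf, ?_⟩
      rw [map_sub, sub_eq_zero]
      have h1 := (E.map (i.1.basicOpen_le f) (X.presheaf.map (homOfLE i.2).op s)).symm
      have h2 := (E.map hgle (X.presheaf.map (homOfLE j.2).op s)).symm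
      rw [H9DefAut.res_res] at h1 h2
      exact (resM_resM (F := F) inf_le_left _ _).trans (h1.trans (h2.symm.trans (resM_resM (F := F) inf_le_right _ _).symm)))
  exact ⟨t, fun U h => (ht ⟨U, h⟩).symm⟩

theorem D_zero (U : AffineZariskiSite X) : E.D U 0 = 0 := by
  have h := E.add U 0 0
  rw [add_zero] at h
  exact left_eq_add.1 h

/-- The glued map. -/
def app (W : X.Opens) : Γ(X, W) →+ Γ(F, W) :=
  AddMonoidHom.mk' (fun s => (E.exists_rel W s).choose) fun s s' =>
    E.rel_unique (E.exists_rel W _).choose_spec fun U h => by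
      rw [map_add, E.add, map_add, (E.exists_rel W s).choose_spec U h, (E.exists_rel W s').choose_spec U h]

theorem rel_app (W : X.Opens) (s : Γ(X, W)) : E.Rel W s (E.app W s) := (E.exists_rel W s).choose_spec

theorem app_eq (U : AffineZariskiSite X) (s : Γ(X, U.toOpens)) : E.app U.toOpens s = E.D U s := by
  have h := E.rel_app U.toOpens s U le_rfl
  simpa using h.symm

/-- The derivation. -/
def toDer : OmegaSh.Der x F where
  d {U} := E.app U.unop
  d_mul {U} a b := E.rel_unique (E.rel_app U.unop _) fun W h => by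
    rw [map_mul, E.mul, E.rel_app U.unop a W h, E.rel_app U.unop b W h, map_add, Scheme.Modules.map_smul,
      Scheme.Modules.map_smul]
    rfl
  d_map {U V} i s := E.rel_unique (E.rel_app V.unop _) fun W h => by
    refine Eq.trans ?_ (resM_resM (F := F) i.unop.le h _).symm
    refine Eq.trans (congrArg (E.D W) ?_) (E.rel_app U.unop s W (h.trans i.unop.le))
    exact H9DefAut.res_res i.unop.le h s
  d_app {V} c := by
    have hc : V.unop = ⊥ ∨ V.unop = ⊤ := by
      refine or_iff_not_imp_left.2 fun hV => ?_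
      obtain ⟨p, hp⟩ := (Opens.ne_bot_iff_nonempty _).1 hV
      exact top_unique fun q _ => (Subsingleton.elim (α := PrimeSpectrum k) p q) ▸ hp
    obtain ⟨V⟩ := V
    obtain rfl | rfl := hc
    · obtain rfl : c = 0 := @Subsingleton.elim Γ(Spec (CommRingCat.of k), ⊥) _ c 0
      exact (congrArg _ (map_zero _)).trans (map_zero _)
    refine E.rel_unique (E.rel_app _ _) fun U h => ?_
    obtain ⟨t, rfl⟩ : ∃ t : k, (Scheme.ΓSpecIso (CommRingCat.of k)).inv t = c :=
      ⟨(Scheme.ΓSpecIso (CommRingCat.of k)).hom c, by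
        rw [← ConcreteCategory.comp_apply, Iso.hom_inv_id]; rfl⟩
    refine Eq.trans ?_ (map_zero _).symm
    refine Eq.trans (congrArg _ ?_) (E.str U t)
    exact ConcreteCategory.congr_hom (show x.app ⊤ ≫ X.presheaf.map (homOfLE h).op = x.appLE ⊤ U.toOpens le_top
      from rfl) _

theorem toDer_app (U : AffineZariskiSite X) (s : Γ(X, U.toOpens)) :
    OmegaSh.Der.app (E.toDer) U.toOpens s = E.D U s :=
  E.app_eq U s

theorem exists_hom [QuasiSeparated x] :
    ∃ θ : Omega.sheaf x ⟶ F, ∀ (U : AffineZariskiSite X) (s : Γ(X, U.toOpens)),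
      θ.app U.toOpens ((OmegaSh.dOmega x).app U.toOpens s) = E.D U s := by
  obtain ⟨α, hα, -⟩ := OmegaUniv.isUniversal_dOmega x _ E.toDer
  exact ⟨α, fun U s => (congrArg (fun D => OmegaSh.Der.app D U.toOpens s) hα).trans (E.toDer_app U s)⟩

end ModFam

set_option maxHeartbeats 1000000 in
/-- A derivation of the functions on an affine open factors through the differentials. -/
theorem exists_lin_of_derivation {Y : Scheme.{u}} (f : X ⟶ Y) [QuasiSeparated f] {U : X.Opens}
    (hU : IsAffineOpen U) {V : Y.Opens} (hV : IsAffineOpen V) (e : U ≤ f ⁻¹ᵁ V)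
    {N : Type u} [AddCommGroup N] [Module Γ(X, U) N] (δ : Γ(X, U) →+ N)
    (hmul : ∀ a b, δ (a * b) = a • δ b + b • δ a) (hbase : ∀ c, δ (f.appLE V U e c) = 0) :
    ∃ L : Γ(Omega.sheaf f, U) →ₗ[Γ(X, U)] N, ∀ b, L ((OmegaSh.dOmega f).app U b) = δ b := by
  let _ := (f.appLE V U e).hom.toAlgebra
  obtain ⟨ψ, hsm, hd⟩ := OmegaUniv.exists_retraction f hU hV e
  letI : Module Γ(Y, V) N := Module.compHom N (f.appLE V U e).hom
  haveI : IsScalarTower Γ(Y, V) Γ(X, U) N := ⟨fun c b n => by
    change (f.appLE V U e c * b) • n = f.appLE V U e c • b • n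
    exact mul_smul _ _ _⟩
  let D : Derivation Γ(Y, V) Γ(X, U) N := Derivation.mk'
    { toFun := δ
      map_add' := map_add δ
      map_smul' := fun c b => by
        change δ (f.appLE V U e c * b) = f.appLE V U e c • δ b
        rw [hmul, hbase, smul_zero, add_zero] }
    hmul
  let ψl : Γ(Omega.sheaf f, U) →ₗ[Γ(X, U)] Ω[Γ(X, U)⁄Γ(Y, V)] :=
    { toFun := ψ, map_add' := map_add ψ, map_smul' := hsm }
  obtain ⟨L, hL⟩ : ∃ L : Ω[Γ(X, U)⁄Γ(Y, V)] →ₗ[Γ(X, U)] N,
      ∀ b, L (KaehlerDifferential.D Γ(Y, V) Γ(X, U) b) = D b :=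
    ⟨D.liftKaehlerDifferential, D.liftKaehlerDifferential_comp_D⟩
  refine ⟨L.comp ψl, fun b => ?_⟩
  have hd' : ψ (OmegaSh.Der.app (OmegaSh.dOmega f) U b) = KaehlerDifferential.D Γ(Y, V) Γ(X, U) b := hd b
  rw [LinearMap.comp_apply, show ψl (OmegaSh.Der.app (OmegaSh.dOmega f) U b) = _ from hd', hL]
  rfl

end Groth.Agent.H9DefExt
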