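import Groth.Agent.H9DefExt.Main
import Groth.Agent.H9Hilb.SemiFibre
import Mathlib.LinearAlgebra.TensorProduct.Basis

/-! The lifts of a deformation along a semi-small extension. -/

set_option autoImplicit false
set_option linter.style.haveILetI false
set_option backward.isDefEq.respectTransparency false
set_option backward.isDefEq.respectTransparency.types false

universe u

open CategoryTheory CategoryTheory.Limits AlgebraicGeometry Opposite ArtFun ArtFun.Art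
open scoped TensorProduct

noncomputable section

namespace Groth.Agent.H9DefExt

open Groth.Agent.DefGlueLib
open Groth.Agent.ArtFunLib (mem_ker_iff)
open Groth.Agent.ArtFunLib.Hull (En)

section Glue

variable {Λ k : Type u} [CommRing Λ] [Field k] [Algebra Λ k]
variable {X : Scheme.{u}} {x : X ⟶ Art.specPt k} {A A₁ A₂ B : Art Λ k}
variable {p₁ : B ⟶ A₁} {p₂ : B ⟶ A₂} {f₁ : A₁ ⟶ A} {f₂ : A₂ ⟶ A}

theorem glue_comp_hom {A' A'' : Art Λ k} {g : A ⟶ A'} {g' : A' ⟶ A''} {g'' : A ⟶ A''} {D : PDef x A}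
    {D' : PDef x A'} {D'' : PDef x A''} (φ : PHom g D D') (φ' : PHom g' D' D'') (φ'' : PHom g'' D D'')
    (e : ∀ U, φ.app.app U ≫ φ'.app.app U = φ''.app.app U) :
    φ'.glue.hom ≫ φ.glue.hom = φ''.glue.hom := by
  refine colimit.hom_ext fun U => ?_
  rw [← Category.assoc, PHom.ι_glue, Category.assoc, PHom.ι_glue, PHom.ι_glue, ← Category.assoc]
  exact congrArg (· ≫ colimit.ι D.diagram U) ((Spec.map_comp _ _).symm.trans (congrArg Spec.map (e _)))

/-- The glued deformation maps to any deformation with compatible restrictions. -/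
theorem exists_iso_fib (h : Art.IsFibreProd p₁ p₂ f₁ f₂) (hf : Function.Surjective f₂)
    {ξ₁ : DefSch X x A₁} {ξ₂ : DefSch X x A₂} {η : DefSch X x A} (Φ₁ : Ov f₁ ξ₁ η) (Φ₂ : Ov f₂ ξ₂ η)
    {ξ : DefSch X x B} (Ψ₁ : Ov p₁ ξ ξ₁) (Ψ₂ : Ov p₂ ξ ξ₂) (e : Φ₁.hom ≫ Ψ₁.hom = Φ₂.hom ≫ Ψ₂.hom) :
    ∃ j : (PDef.fib h hf Φ₁.sec Φ₂.sec).toDefSch.Iso ξ,
      ((PDef.fst h hf Φ₁.sec Φ₂.sec).glue.isoComp (counit ξ₁).symm).hom ≫ j.iso.hom = Ψ₁.hom ∧
      ((PDef.snd h hf Φ₁.sec Φ₂.sec).glue.isoComp (counit ξ₂).symm).hom ≫ j.iso.hom = Ψ₂.hom := by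
  let φ : PHom (𝟙 B) (ofSch ξ) (PDef.fib h hf Φ₁.sec Φ₂.sec) :=
    { app :=
        { app := fun U => CommRingCat.ofHom (((Ψ₁.sec.app.app U).hom.prod (Ψ₂.sec.app.app U).hom).codRestrict _
            fun r => ConcreteCategory.congr_hom (Ov.sec_comp_eq Φ₁ Φ₂ Ψ₁ Ψ₂ e U) r)
          naturality := fun U V f => CommRingCat.hom_ext (RingHom.ext fun r => Subtype.ext (Prod.ext
            (ConcreteCategory.congr_hom (Ψ₁.sec.app.naturality f) r)
            (ConcreteCategory.congr_hom (Ψ₂.sec.app.naturality f) r))) }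
      comm := fun U c => Subtype.ext (Prod.ext (Ψ₁.sec.comm U c) (Ψ₂.sec.comm U c))
      q_app := NatTrans.ext (funext fun U => CommRingCat.hom_ext (RingHom.ext fun r =>
        ConcreteCategory.congr_hom (congrArg (fun t => NatTrans.app t U) Ψ₁.sec.q_app) r)) }
  refine ⟨(Ov.toIso φ.glue).trans (counit ξ), ?_, ?_⟩
  · change ((counit ξ₁).iso.inv ≫ (PDef.fst h hf Φ₁.sec Φ₂.sec).glue.hom) ≫
      φ.glue.hom ≫ (counit ξ).iso.hom = Ψ₁.hom
    rw [Category.assoc, ← Category.assoc _ φ.glue.hom,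
      glue_comp_hom φ (PDef.fst h hf Φ₁.sec Φ₂.sec) Ψ₁.sec (fun _ => rfl), counit_naturality,
      Iso.inv_hom_id_assoc]
  · change ((counit ξ₂).iso.inv ≫ (PDef.snd h hf Φ₁.sec Φ₂.sec).glue.hom) ≫
      φ.glue.hom ≫ (counit ξ).iso.hom = Ψ₂.hom
    rw [Category.assoc, ← Category.assoc _ φ.glue.hom,
      glue_comp_hom φ (PDef.snd h hf Φ₁.sec Φ₂.sec) Ψ₂.sec (fun _ => rfl), counit_naturality,
      Iso.inv_hom_id_assoc]

/-- A deformation over a fibre product is determined, with its projections, by its restrictions. -/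
theorem exists_iso_pushout (h : Art.IsFibreProd p₁ p₂ f₁ f₂) (hf : Function.Surjective f₂)
    {ξ₁ : DefSch X x A₁} {ξ₂ : DefSch X x A₂} {η : DefSch X x A} (Φ₁ : Ov f₁ ξ₁ η) (Φ₂ : Ov f₂ ξ₂ η)
    {ξ ξ' : DefSch X x B} (Ψ₁ : Ov p₁ ξ ξ₁) (Ψ₂ : Ov p₂ ξ ξ₂) (e : Φ₁.hom ≫ Ψ₁.hom = Φ₂.hom ≫ Ψ₂.hom)
    (Ψ₁' : Ov p₁ ξ' ξ₁) (Ψ₂' : Ov p₂ ξ' ξ₂) (e' : Φ₁.hom ≫ Ψ₁'.hom = Φ₂.hom ≫ Ψ₂'.hom) :
    ∃ θ : ξ.Iso ξ', Ψ₁.hom ≫ θ.iso.hom = Ψ₁'.hom ∧ Ψ₂.hom ≫ θ.iso.hom = Ψ₂'.hom := by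
  obtain ⟨j, hj₁, hj₂⟩ := exists_iso_fib h hf Φ₁ Φ₂ Ψ₁ Ψ₂ e
  obtain ⟨j', hj₁', hj₂'⟩ := exists_iso_fib h hf Φ₁ Φ₂ Ψ₁' Ψ₂' e'
  refine ⟨j.symm.trans j', ?_, ?_⟩
  · change Ψ₁.hom ≫ j.iso.inv ≫ j'.iso.hom = Ψ₁'.hom
    rw [← hj₁, ← hj₁', Category.assoc, Iso.hom_inv_id_assoc]
  · change Ψ₂.hom ≫ j.iso.inv ≫ j'.iso.hom = Ψ₂'.hom
    rw [← hj₂, ← hj₂', Category.assoc, Iso.hom_inv_id_assoc]

/-- The inclusion of the closed fibre as a morphism of deformations. -/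
def closed (hx : Flat x) (ξ : DefSch X x A) : Ov (Art.toBase A) ξ (DefSch.self X x hx) where
  hom := ξ.i
  w := ξ.i_f
  i_hom := Category.id_comp _

theorem closed_comp (hx : Flat x) {g : B ⟶ A} {ξ : DefSch X x B} {η : DefSch X x A} (Ψ : Ov g ξ η) :
    (closed hx η).hom ≫ Ψ.hom = ξ.i :=
  Ψ.i_hom

end Glue

section Fibre

variable {k : Type u} [Field k]

theorem exists_toEn {C' C P : Art k k} {p : C' ⟶ C} (hp : IsSemismallExt p) {p₁ p₂ : P ⟶ C'}
    (hP : IsFibreProd p₁ p₂ p p) {n : ℕ} (b : Module.Basis (Fin n) k ↥(RingHom.ker p.toAlgHom)) :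
    ∃ g : P ⟶ (En n : Art k k), IsFibreProd p₁ g (toBase C') (toBase (En n : Art k k)) := by
  have hd : ∀ z, p₂ z - p₁ z ∈ RingHom.ker p.toAlgHom := fun z => by
    rw [mem_ker_iff, map_sub p.toAlgHom]
    exact sub_eq_zero.2 (hP.w_apply z).symm
  let d : P → ↥(RingHom.ker p.toAlgHom) := fun z => ⟨p₂ z - p₁ z, hd z⟩
  have hmul : ∀ x y, d (x * y) = P.res x • d y + P.res y • d x := fun x y => Subtype.ext <| by
    change p₂.toAlgHom (x * y) - p₁.toAlgHom (x * y) =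
      P.res x • (p₂.toAlgHom y - p₁.toAlgHom y) + P.res y • (p₂.toAlgHom x - p₁.toAlgHom x)
    have e₁ := H9Hilb.mul_eq_res_smul p hp (p₂ x) _ (hd y)
    have e₂ := H9Hilb.mul_eq_res_smul p hp (p₁ y) _ (hd x)
    rw [res_app] at e₁ e₂
    rw [← e₁, ← e₂, map_mul, map_mul]
    ring
  let co : ↥(RingHom.ker p.toAlgHom) →ₗ[k] (Fin n → k) := b.equivFun.toLinearMap
  let G : P →ₐ[k] TrivSqZeroExt k (Fin n → k) :=
    { toFun := fun z => (P.res z, co (d z))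
      map_one' := TrivSqZeroExt.ext (map_one _) (by
        change co (d 1) = _
        rw [show d 1 = 0 from Subtype.ext (by
          change p₂.toAlgHom 1 - p₁.toAlgHom 1 = 0
          rw [map_one, map_one, sub_self]), map_zero, TrivSqZeroExt.snd_one])
      map_zero' := TrivSqZeroExt.ext (map_zero _) (by
        change co (d 0) = _
        rw [show d 0 = 0 from Subtype.ext (by
          change p₂.toAlgHom 0 - p₁.toAlgHom 0 = 0
          rw [map_zero, map_zero, sub_self]), map_zero, TrivSqZeroExt.snd_zero])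
      map_add' := fun x y => TrivSqZeroExt.ext (map_add _ _ _) (by
        change co (d (x + y)) = co (d x) + co (d y)
        rw [← map_add, show d (x + y) = d x + d y from Subtype.ext (by
          change p₂.toAlgHom (x + y) - p₁.toAlgHom (x + y) = (p₂.toAlgHom x - p₁.toAlgHom x) + (p₂.toAlgHom y - p₁.toAlgHom y)
          rw [map_add, map_add]; abel)])
      map_mul' := fun x y => TrivSqZeroExt.ext (map_mul _ _ _) (by
        change co (d (x * y)) = P.res x • co (d y) + MulOpposite.op (P.res y) • co (d x)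
        rw [hmul, map_add, map_smul, map_smul, op_smul_eq_smul])
      commutes' := fun c => TrivSqZeroExt.ext (P.res.commutes c) (by
        change co (d (algebraMap k P c)) = _
        rw [show d (algebraMap k P c) = 0 from Subtype.ext (by
          change p₂.toAlgHom (algebraMap k P c) - p₁.toAlgHom (algebraMap k P c) = 0
          rw [AlgHom.commutes, AlgHom.commutes, sub_self]), map_zero, TrivSqZeroExt.algebraMap_eq_inl',
          TrivSqZeroExt.snd_inl]) }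
  let g : P ⟶ (En n : Art k k) := ⟨G, AlgHom.ext fun _ => rfl⟩
  refine ⟨g, by rw [eq_toBase (p₁ ≫ _), eq_toBase (g ≫ _)], fun z₁ z₂ h₁ h₂ => hP.inj _ _ h₁ ?_, fun c a e => ?_⟩
  · have h₃ : co (d z₁) = co (d z₂) := congrArg TrivSqZeroExt.snd h₂
    have h₄ : p₂ z₁ - p₁ z₁ = p₂ z₂ - p₁ z₂ := congrArg Subtype.val (b.equivFun.injective h₃)
    rw [h₁] at h₄
    exact sub_left_inj.1 h₄
  · let j : ↥(RingHom.ker p.toAlgHom) := b.equivFun.symm a.snd
    obtain ⟨z, hz₁, hz₂⟩ := hP.surj c (c + j.1) (by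
      rw [map_add, show p.toAlgHom j.1 = 0 from j.2, add_zero])
    refine ⟨z, hz₁, TrivSqZeroExt.ext ?_ ?_⟩
    · change P.res z = a.fst
      rw [← res_app p₁, hz₁]
      exact e
    · change co (d z) = a.snd
      rw [show d z = j from Subtype.ext (by change p₂ z - p₁ z = j.1; rw [hz₁, hz₂, add_sub_cancel_left])]
      exact b.equivFun.apply_symm_apply _

variable {X : Scheme.{u}} {x : X ⟶ Art.specPt k}

/-- The identifications of lifts of a deformation. -/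
def LiftRel {C' C : Art k k} (p : C' ⟶ C) (𝒳 : DefSch X x C)
    (a b : Σ 𝒳' : DefSch X x C', (𝒳'.baseChange p).Iso 𝒳) : Prop :=
  ∃ ψ : a.1.Iso b.1, ((ψ.baseChange p).trans b.2).iso = a.2.iso

/-- A lift as a morphism of deformations. -/
def liftOv {C' C : Art k k} {p : C' ⟶ C} {𝒳 : DefSch X x C}
    (a : Σ 𝒳' : DefSch X x C', (𝒳'.baseChange p).Iso 𝒳) : Ov p a.1 𝒳 :=
  (Ov.proj a.1 p).isoComp a.2.symm

theorem liftOv_hom {C' C : Art k k} {p : C' ⟶ C} {𝒳 : DefSch X x C}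
    (a : Σ 𝒳' : DefSch X x C', (𝒳'.baseChange p).Iso 𝒳) :
    (liftOv a).hom = a.2.iso.inv ≫ pullback.fst a.1.f (Art.specMap p) := rfl

theorem liftRel_iff {C' C : Art k k} {p : C' ⟶ C} {𝒳 : DefSch X x C}
    (a b : Σ 𝒳' : DefSch X x C', (𝒳'.baseChange p).Iso 𝒳) :
    LiftRel p 𝒳 a b ↔ ∃ ψ : a.1.Iso b.1, (liftOv a).hom ≫ ψ.iso.hom = (liftOv b).hom := by
  have hfst : ∀ ψ : a.1.Iso b.1, (ψ.baseChange p).iso.hom ≫ pullback.fst b.1.f (Art.specMap p) =
      pullback.fst a.1.f (Art.specMap p) ≫ ψ.iso.hom := fun ψ => DefSch.pullMap_fst ψ.iso.hom ψ.hom_f p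
  refine ⟨fun ⟨ψ, h⟩ => ⟨ψ, ?_⟩, fun ⟨ψ, h⟩ => ⟨ψ, Iso.ext ?_⟩⟩
  · have h' : (ψ.baseChange p).iso.hom ≫ b.2.iso.hom = a.2.iso.hom := congrArg Iso.hom h
    rw [liftOv_hom, liftOv_hom, Category.assoc, ← hfst, Iso.inv_comp_eq, ← h', Category.assoc,
      Iso.hom_inv_id_assoc]
  · change (ψ.baseChange p).iso.hom ≫ b.2.iso.hom = a.2.iso.hom
    refine (liftOv b).hom_ext ?_ ?_
    · rw [Category.assoc, liftOv_hom b, Iso.hom_inv_id_assoc, hfst, ← liftOv_hom b, ← h, liftOv_hom a,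
        Category.assoc, Iso.hom_inv_id_assoc]
    · rw [Category.assoc, b.2.hom_f, (ψ.baseChange p).hom_f, a.2.hom_f]

/-- The lifts of a deformation along a semi-small extension are a torsor under the tangent space. -/
theorem nonempty_equiv_lifts (hx : Flat x) {C' C : Art k k} (p : C' ⟶ C) (hp : IsSemismallExt p) (n : ℕ)
    (b : Module.Basis (Fin n) k ↥(RingHom.ker p.toAlgHom)) (𝒳 : DefSch X x C)
    (hne : Nonempty (Σ 𝒳' : DefSch X x C', (𝒳'.baseChange p).Iso 𝒳)) :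
    Nonempty (Quot (LiftRel p 𝒳) ≃ (defFunctor (Λ := k) X x).obj (En n)) := by
  obtain ⟨a₀⟩ := hne
  obtain ⟨P, p₁, p₂, hP⟩ := ArtFunLib.exists_isFibreProd p p hp.1
  obtain ⟨g, hg⟩ := exists_toEn hp hP b
  have hs : Function.Surjective (toBase (En n : Art k k)) := fun a => ⟨TrivSqZeroExt.inl a, rfl⟩
  have hw : Art.specMap p ≫ Art.specMap p₁ = Art.specMap p ≫ Art.specMap p₂ := by
    rw [← Art.specMap_comp, ← Art.specMap_comp, hP.w]
  choose ζ Ψ₁ Ψ₂ hΨ using fun a => exists_pushout hP hp.1 (liftOv a₀) (liftOv (𝒳 := 𝒳) a)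
  let Θ : (Σ 𝒳' : DefSch X x C', (𝒳'.baseChange p).Iso 𝒳) → (defFunctor (Λ := k) X x).obj (En n) :=
    fun a => ((ζ a).baseChange g).cl
  have hΘ : ∀ a a', LiftRel p 𝒳 a a' → Θ a = Θ a' := fun a a' h => by
    obtain ⟨ψ, hψ⟩ := (liftRel_iff a a').1 h
    obtain ⟨θ, -, -⟩ := exists_iso_pushout hP hp.1 (liftOv a₀) (liftOv a') (Ψ₁ a) ((Ψ₂ a).isoComp ψ.symm)
      (by
        change _ = (liftOv a').hom ≫ ψ.iso.inv ≫ (Ψ₂ a).hom
        rw [← hψ, Category.assoc, Iso.hom_inv_id_assoc]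
        exact hΨ a)
      (Ψ₁ a') (Ψ₂ a') (hΨ a')
    exact cl_eq_iff.2 ⟨θ.baseChange g⟩
  refine ⟨Equiv.ofBijective (Quot.lift Θ hΘ) ⟨?_, ?_⟩⟩
  · rintro ⟨a⟩ ⟨a'⟩ h
    obtain ⟨σ⟩ := cl_eq_iff.1 (show Θ a = Θ a' from h)
    obtain ⟨θ, hθ, -⟩ := exists_iso_pushout hg hs (closed hx a₀.1) (closed hx ((ζ a).baseChange g))
      (Ψ₁ a) (Ov.proj (ζ a) g) ((closed_comp hx _).trans (closed_comp hx _).symm)
      (Ψ₁ a') ((Ov.proj (ζ a') g).isoComp σ) ((closed_comp hx _).trans (closed_comp hx _).symm)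
    obtain ⟨ψ, hψ⟩ := (Ψ₂ a').exists_iso ((Ψ₂ a).compIso θ)
    refine Quot.sound ((liftRel_iff a a').2 ⟨ψ, (Ψ₂ a').hom_ext ?_ ?_⟩)
    · rw [Category.assoc, hψ]
      change (liftOv a).hom ≫ (Ψ₂ a).hom ≫ θ.iso.hom = _
      rw [← Category.assoc, ← hΨ a, Category.assoc, hθ]
      exact hΨ a'
    · rw [Category.assoc, ψ.hom_f, (liftOv a).w, (liftOv a').w]
  · intro w
    obtain ⟨η, rfl⟩ := cl_surjective w
    obtain ⟨Z, Z₁, Zg, -⟩ := exists_pushout hg hs (closed hx a₀.1) (closed hx η)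
    let Φ' : Ov p (Z.baseChange p₂) 𝒳 :=
      { hom := pullback.lift ((liftOv a₀).hom ≫ Z₁.hom) (𝒳.f ≫ Art.specMap p) (by
          rw [Category.assoc, Z₁.w, ← Category.assoc, (liftOv a₀).w, Category.assoc, Category.assoc, hw])
        w := pullback.lift_snd _ _ _
        i_hom := pullback.hom_ext
          (by rw [Category.assoc, pullback.lift_fst, DefSch.baseChange_i_fst, ← Category.assoc,
            (liftOv a₀).i_hom, Z₁.i_hom])
          (by rw [Category.assoc, pullback.lift_snd, ← Category.assoc, DefSch.i_f, Category.assoc,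
            Art.specRes_comp]
              exact (DefSch.baseChange_i_f Z p₂).symm) }
    let a : Σ 𝒳' : DefSch X x C', (𝒳'.baseChange p).Iso 𝒳 := ⟨Z.baseChange p₂, Φ'.toBC.symm⟩
    have ha : (liftOv a).hom = Φ'.hom := Φ'.toBC_fst
    refine ⟨Quot.mk _ a, ?_⟩
    change Θ a = η.cl
    obtain ⟨θ, -, -⟩ := exists_iso_pushout hP hp.1 (liftOv a₀) (liftOv a) Z₁ (Ov.proj Z p₂)
      (by rw [ha]; exact (pullback.lift_fst _ _ _).symm) (Ψ₁ a) (Ψ₂ a) (hΨ a)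
    exact cl_eq_iff.2 ⟨(θ.baseChange g).symm.trans Zg.toBC.symm⟩

end Fibre

theorem nonempty_equiv_lifts_HH {k : Type u} [Field k] (X : Scheme.{u}) [X.Over (Spec (CommRingCat.of k))]
    [QuasiSeparated (X ↘ Spec (CommRingCat.of k))] [Smooth (X ↘ Spec (CommRingCat.of k))]
    [DCoh.HasSheafHom (Omega.sheaf (X ↘ Spec (CommRingCat.of k)))]
    {C' C : Art k k} (p : C' ⟶ C) (hp : IsSemismallExt p)
    (𝒳 : DefSch X (X ↘ Spec (CommRingCat.of k)) C)
    (hne : Nonempty (Σ 𝒳' : DefSch X (X ↘ Spec (CommRingCat.of k)) C', (𝒳'.baseChange p).Iso 𝒳)) :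
    Nonempty (Quot (LiftRel p 𝒳) ≃
      (Coh.HH X ((DCoh.sheafHom (Omega.sheaf (X ↘ Spec (CommRingCat.of k)))).obj (Coh.structureModule X)) 1 ⊗[k]
        ↥(RingHom.ker p.toAlgHom))) := by
  haveI : IsNoetherian k C' := ArtFunLib.isNoetherian_base C'
  haveI : Module.Finite k ↥(RingHom.ker p.toAlgHom) :=
    Module.Finite.of_injective ((RingHom.ker p.toAlgHom).subtype.restrictScalars k) Subtype.val_injective
  let b := Module.finBasis k ↥(RingHom.ker p.toAlgHom)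
  obtain ⟨e₁⟩ := nonempty_equiv_lifts (flat_str _) p hp _ b 𝒳 hne
  obtain ⟨T⟩ := ArtFunLib.nonempty_tangentStr
    (h0_defFunctor (Λ := k) (x := X ↘ Spec (CommRingCat.of k))) heps_defFunctor
  obtain ⟨e₂⟩ := @nonempty_tangent_HH k _ X _ _ _ T _
  exact ⟨((e₁.trans (Equiv.ofBijective _ (H9Hilb.bijective_coords h0_defFunctor heps_defFunctor _))).trans
    (Equiv.piCongrRight fun _ => e₂.toEquiv)).trans
      ((TensorProduct.equivFinsuppOfBasisRight b).toEquiv.trans Finsupp.equivFunOnFinite).symm⟩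

end Groth.Agent.H9DefExt
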