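import Groth.Agent.H9DefExt.Surj
import Groth.Agent.DefGlueLib.Rigid
import Groth.Agent.ArtFunLib.Tangent
import Groth.Agent.ArtFunLib.Square
import Groth.Agent.ArtFunLib.Hull.Prorep
import Groth.Agent.H9DefAut.Forward
import Groth.Agent.Lib.PnDualSheafHom
import Groth.Agent.AmpleVan.LiftFibre
import Groth.Agent.S2926
import Groth.Agent.S5018
import Groth.Agent.S1488

/-! The tangent space of the deformation functor of a smooth scheme. -/

set_option autoImplicit false
set_option linter.style.haveILetI false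
set_option backward.isDefEq.respectTransparency false
set_option backward.isDefEq.respectTransparency.types false

universe u

open CategoryTheory CategoryTheory.Limits AlgebraicGeometry TopologicalSpace Opposite ArtFun Abelian

noncomputable section

namespace Groth.Agent.H9DefExt

open Groth.Agent.DefGlueLib

variable {k : Type u} [Field k] {X : Scheme.{u}} [X.Over (Spec (CommRingCat.of k))]
  [QuasiSeparated (X ↘ Spec (CommRingCat.of k))] [Smooth (X ↘ Spec (CommRingCat.of k))]

theorem isFinLocFree_omega : FlatMod.IsFinLocFree (Omega.sheaf (X ↘ Spec (CommRingCat.of k))) :=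
  S5018.result (X ↘ Spec (CommRingCat.of k)) ((S1488.result _).1 inferInstance).2 _ _
    (OmegaUniv.isUniversal_dOmega _)

section Ext

variable [HasExt.{u} X.Modules]

theorem nonempty_tangent_ext [TangentStr (defFunctor (Λ := k) X (X ↘ Spec (CommRingCat.of k)))] :
    Nonempty (TangentSpace (defFunctor (Λ := k) X (X ↘ Spec (CommRingCat.of k))) ≃ₗ[k]
      Ext.{u} (Omega.sheaf (X ↘ Spec (CommRingCat.of k))) (Coh.structureModule X) 1) :=
  ⟨(LinearEquiv.ofBijective (psiLin X) psiLin_bijective).symm⟩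

theorem subsingleton_dual_iff :
    Subsingleton ((defFunctor (Λ := k) X (X ↘ Spec (CommRingCat.of k))).obj (Art.dual k k)) ↔
      Subsingleton (Ext.{u} (Omega.sheaf (X ↘ Spec (CommRingCat.of k))) (Coh.structureModule X) 1) := by
  obtain ⟨T⟩ := ArtFunLib.nonempty_tangentStr
    (h0_defFunctor (Λ := k) (x := X ↘ Spec (CommRingCat.of k))) heps_defFunctor
  obtain ⟨e⟩ := @nonempty_tangent_ext k _ X _ _ _ _ T
  exact e.toEquiv.subsingleton_congr

theorem subsingleton_obj_iff :
    (∀ A : Art k k, Subsingleton ((defFunctor (Λ := k) X (X ↘ Spec (CommRingCat.of k))).obj A)) ↔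
      Subsingleton (Ext.{u} (Omega.sheaf (X ↘ Spec (CommRingCat.of k))) (Coh.structureModule X) 1) :=
  ⟨fun h => subsingleton_dual_iff.1 (h _), fun h A =>
    subsingleton_obj_of_subsingleton_tangent h0_defFunctor (ArtFunLib.hbar_of_s1 s1_defFunctor) heps_defFunctor
      (subsingleton_dual_iff.2 h) A⟩

end Ext

theorem nonempty_tangent_HH [TangentStr (defFunctor (Λ := k) X (X ↘ Spec (CommRingCat.of k)))]
    [DCoh.HasSheafHom (Omega.sheaf (X ↘ Spec (CommRingCat.of k)))] :
    Nonempty (TangentSpace (defFunctor (Λ := k) X (X ↘ Spec (CommRingCat.of k))) ≃ₗ[k]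
      Coh.HH X ((DCoh.sheafHom (Omega.sheaf (X ↘ Spec (CommRingCat.of k)))).obj (Coh.structureModule X)) 1) := by
  haveI : HasExt.{u} X.Modules := IsGrothendieckAbelian.hasExt _
  obtain ⟨e⟩ := nonempty_tangent_ext (k := k) (X := X)
  obtain ⟨e'⟩ := PnDual.nonempty_ext_linearEquiv_HH (A := k) (isFinLocFree_omega (k := k) (X := X))
    (Coh.structureModule X) 1
  exact ⟨(e.trans e').trans (S2926.hhIso k ((AmpleVan.sheafHomIso _).app _).symm 1)⟩

theorem hsq_defFunctor_of_subsingleton
    [Subsingleton (Omega.sheaf (X ↘ Spec (CommRingCat.of k)) ⟶ Coh.structureModule X)] :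
    HSq (defFunctor (Λ := k) X (X ↘ Spec (CommRingCat.of k))) :=
  fun B A A' p₁ p₂ f h hf => ⟨injective_cmp h hf.1 fun ξ σ => ⟨DefSch.Iso.refl ξ, iso_ext (by
      rw [H9DefAut.iso_hom_eq_id _ σ, H9DefAut.iso_hom_eq_id _ ((DefSch.Iso.refl ξ).baseChange f)])⟩,
    surjective_cmp h hf.1⟩

end Groth.Agent.H9DefExt
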