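import Groth.Agent.DefGlueLib.Sections

/-! The sections of a glued deformation are the given pieces. -/

set_option autoImplicit false
set_option backward.isDefEq.respectTransparency false
set_option backward.isDefEq.respectTransparency.types false

universe u

open CategoryTheory CategoryTheory.Limits AlgebraicGeometry TopologicalSpace Opposite ArtFun

noncomputable section

namespace Groth.Agent.H9DefExt

open Scheme (AffineZariskiSite)
open Groth.Agent.DefGlueLib

variable {Λ k : Type u} [CommRing Λ] [Field k] [Algebra Λ k]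
variable {X : Scheme.{u}} {x : X ⟶ Art.specPt k} {C : Art Λ k} (D : PDef x C)

theorem le_ι_imOpen (U : AffineZariskiSite X) :
    ⊤ ≤ colimit.ι D.diagram U ⁻¹ᵁ imOpen D.toDefSch U.toOpens := by
  intro p _
  obtain ⟨q, rfl⟩ := (D.bijective_θ U).2 p
  refine ⟨q.1, q.2, ?_⟩
  exact congrArg (fun φ : (U.toOpens : Scheme.{u}) ⟶ D.glued => φ q) (D.ι_incl U)

/-- The comparison map on an affine piece. -/
def unitApp (U : AffineZariskiSite X) : (ofSch D.toDefSch).R.obj (op U) ⟶ D.R.obj (op U) :=
  (colimit.ι D.diagram U).appLE (imOpen D.toDefSch U.toOpens) ⊤ (le_ι_imOpen D U) ≫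
    (Scheme.ΓSpecIso (D.R.obj (op U))).hom

theorem unit_naturality {U V : AffineZariskiSite X} (h : V ⟶ U) :
    (ofSch D.toDefSch).R.map h.op ≫ unitApp D V = unitApp D U ≫ D.R.map h.op := by
  dsimp only [unitApp]
  rw [Category.assoc, ← Scheme.ΓSpecIso_naturality (D.R.map h.op), ← Category.assoc, ← Category.assoc]
  refine congrArg (· ≫ _) ?_
  refine (Scheme.Hom.map_appLE _ _ _).trans ?_
  rw [Scheme.Hom.appTop, Scheme.Hom.app_eq_appLE]
  refine Eq.trans ?_ (Scheme.Hom.appLE_comp_appLE _ _ _ _ _ _ _).symm
  simp only [show Spec.map (D.R.map h.op) ≫ colimit.ι D.diagram U = colimit.ι D.diagram V from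
    colimit.w D.diagram h]

theorem exists_unit : ∃ ν : PHom (𝟙 C) (ofSch D.toDefSch) D,
    ∀ U, Function.Bijective (ν.app.app U).hom := by
  let ν : PHom (𝟙 C) (ofSch D.toDefSch) D :=
    { app :=
        { app := fun U => unitApp D U.unop
          naturality := fun U V f => unit_naturality D f.unop }
      comm := fun U c => by
        induction U using Opposite.rec with | op U => ?_
        refine DFunLike.congr_fun (f := (unitApp D U).hom.comp (secA D.toDefSch _)) ?_ c
        have hw : colimit.ι D.diagram U ≫ D.toDefSch.f = Spec.map (CommRingCat.ofHom (D.a (op U))) := D.ι_str' U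
        have h2 := Scheme.ΓSpecIso_inv_naturality (CommRingCat.ofHom (D.a (op U)))
        have h3 : (Scheme.ΓSpecIso (CommRingCat.of C)).inv ≫
            D.toDefSch.f.appLE ⊤ (imOpen D.toDefSch U.toOpens) le_top ≫ unitApp D U =
              CommRingCat.ofHom (D.a (op U)) := by
          dsimp only [unitApp]
          rw [← Category.assoc (D.toDefSch.f.appLE _ _ _), Scheme.Hom.appLE_comp_appLE]
          simp only [hw]
          rw [Scheme.Hom.appTop, Scheme.Hom.app_eq_appLE] at h2
          rw [← Category.assoc]
          refine (congrArg (· ≫ _) h2.symm).trans ?_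
          rw [Category.assoc]
          refine (congrArg (CommRingCat.ofHom (D.a (op U)) ≫ ·) (Iso.inv_hom_id _)).trans (Category.comp_id _)
        refine Eq.trans ?_ (congrArg CommRingCat.Hom.hom h3)
        rw [← CommRingCat.hom_comp, Category.assoc]
        rfl
      q_app := by
        refine NatTrans.ext (funext fun U => ?_)
        induction U using Opposite.rec with | op U => ?_
        change unitApp D U ≫ D.qU U =
          D.toDefSch.i.appLE (imOpen D.toDefSch U.toOpens) U.toOpens (preimage_imOpen _ _).ge
        dsimp only [unitApp]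
        rw [Category.assoc, ← Scheme.ΓSpecIso_naturality (D.qU U), Scheme.Hom.appTop, Scheme.Hom.app_eq_appLE,
          ← Category.assoc, Scheme.Hom.appLE_comp_appLE]
        rw [← cancel_mono (Scheme.ΓSpecIso Γ(X, U.toOpens)).inv, Category.assoc, Iso.hom_inv_id,
          Category.comp_id]
        have e := congrArg (fun t => U.2.isoSpec.inv ≫ t) (D.ι_incl U)
        simp only [PDef.θ, ← U.2.isoSpec_hom, Category.assoc, Iso.inv_hom_id_assoc] at e
        have e' : Spec.map (D.qU U) ≫ colimit.ι D.diagram U = U.2.fromSpec ≫ D.toDefSch.i := by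
          rw [← e, ← Category.assoc, U.2.isoSpec_inv_ι]
          rfl
        simp only [e']
        refine (Scheme.Hom.appLE_comp_appLE (f := U.2.fromSpec) (g := D.toDefSch.i) _ U.toOpens _
          (preimage_imOpen _ _).ge (U.2.fromSpec_preimage_self).ge).symm.trans ?_
        refine congrArg (_ ≫ ·) ?_
        change U.2.fromSpec.appLE U.toOpens ⊤ _ = _
        rw [Scheme.Hom.appLE, U.2.fromSpec_app_self, Category.assoc, ← Functor.map_comp]
        rw [show ∀ e : op (⊤ : (Spec Γ(X, U.toOpens)).Opens) ⟶ op ⊤,
          (Spec Γ(X, U.toOpens)).presheaf.map e = 𝟙 _ from fun e => by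
            rw [Subsingleton.elim e (𝟙 _), CategoryTheory.Functor.map_id]]
        exact Category.comp_id _ }
  refine ⟨ν, fun U => ?_⟩
  exact ((ofSch D.toDefSch).isDef U).bijective (D.isDef U) (ν.app.app U).hom (ν.comm U)
    (fun r => congr($(ν.q_app).app U r))

/-- Inverse of a bijective morphism of families. -/
def invHom {D D' : PDef x C} (φ : PHom (𝟙 C) D D') (hb : ∀ U, Function.Bijective (φ.app.app U).hom) :
    PHom (𝟙 C) D' D where
  app :=
    { app := fun U => CommRingCat.ofHom (RingEquiv.ofBijective (φ.app.app U).hom (hb U)).symm.toRingHom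
      naturality := fun U V f => CommRingCat.hom_ext (RingHom.ext fun r => (hb V).1 (by
        obtain ⟨s, rfl⟩ := (hb U).2 r
        change (φ.app.app V).hom ((RingEquiv.ofBijective _ (hb V)).symm (D'.R.map f ((φ.app.app U).hom s))) =
          (φ.app.app V).hom (D.R.map f ((RingEquiv.ofBijective _ (hb U)).symm ((φ.app.app U).hom s)))
        rw [show (RingEquiv.ofBijective _ (hb U)).symm ((φ.app.app U).hom s) = s from
          (RingEquiv.ofBijective _ (hb U)).symm_apply_apply s]
        exact ((RingEquiv.ofBijective _ (hb V)).apply_symm_apply _).trans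
          (ConcreteCategory.congr_hom (φ.app.naturality f) s).symm)) }
  comm U c := (RingEquiv.ofBijective _ (hb U)).symm_apply_eq.2 (φ.comm U c).symm
  q_app := NatTrans.ext (funext fun U => CommRingCat.hom_ext (RingHom.ext fun r => by
    obtain ⟨s, rfl⟩ := (hb U).2 r
    change (D.q.app U).hom ((RingEquiv.ofBijective _ (hb U)).symm ((φ.app.app U).hom s)) = _
    rw [show (RingEquiv.ofBijective _ (hb U)).symm ((φ.app.app U).hom s) = s from
      (RingEquiv.ofBijective _ (hb U)).symm_apply_apply s]
    exact (congr($(φ.q_app).app U s)).symm))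

/-- Composition. -/
def compHom {A B : Art Λ k} {D : PDef x A} {D' : PDef x B} {D'' : PDef x C} {g : A ⟶ B} {g' : B ⟶ C}
    (φ : PHom g D D') (ψ : PHom g' D' D'') : PHom (g ≫ g') D D'' where
  app := φ.app ≫ ψ.app
  comm U c := (congrArg (ψ.app.app U).hom (φ.comm U c)).trans (ψ.comm U (g c))
  q_app := by rw [Category.assoc, ψ.q_app, φ.q_app]

/-- A morphism of families transports classes. -/
theorem map_cl_pHom {A : Art Λ k} {D₁ : PDef x A} {g : A ⟶ C} (φ : PHom g D₁ D) :
    (defFunctor X x).map g D₁.toDefSch.cl = D.toDefSch.cl :=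
  Quotient.sound ⟨φ.glue.toBC.symm⟩

/-- Isomorphic glued deformations give a morphism of families. -/
theorem exists_pHom_of_cl_eq {D' : PDef x C} (h : D'.toDefSch.cl = D.toDefSch.cl) :
    Nonempty (PHom (𝟙 C) D' D) := by
  obtain ⟨e⟩ := Quotient.exact h
  obtain ⟨ν, -⟩ := exists_unit D
  obtain ⟨ν', hν'⟩ := exists_unit D'
  let φ := compHom (invHom ν' hν') (compHom (Ov.ofIso e.symm).sec ν)
  exact ⟨⟨φ.app, fun U c => φ.comm U c, φ.q_app⟩⟩

end Groth.Agent.H9DefExt
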