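import Groth.Agent.H9DefExt.Ext
import Groth.Agent.H9DefExt.Unit
import Groth.Agent.H9DefAut.Backward
import Groth.Agent.BlendLib.Basic
import Groth.Agent.QCoh.Extension
import Groth.Agent.QCoh.VanIdeal
import Groth.Agent.QCoh.DevissageSum
import Groth.Prelude.Def_KLin

/-! The map from `Ext¹(Ω, O)` to first-order deformations. -/

set_option autoImplicit false
set_option linter.style.haveILetI false
set_option backward.isDefEq.respectTransparency false
set_option backward.isDefEq.respectTransparency.types false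

universe u

open CategoryTheory CategoryTheory.Limits AlgebraicGeometry TopologicalSpace Opposite ArtFun TrivSqZeroExt Abelian

noncomputable section

namespace Groth.Agent.H9DefExt

open Scheme (AffineZariskiSite)
open Groth.Agent.DefGlueLib

attribute [local instance 10] SqExt.opModule SqExt.opCentral

variable {k : Type u} [Field k]

/-- The coordinate on the dual numbers. -/
def dualBasis : SqBasis (Art.dual k k) 1 where
  y _ := (inr 1 : DualNumber k)
  ℓ := LinearMap.pi fun _ => TrivSqZeroExt.sndHom k k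
  decomp c := by
    change (c : DualNumber k) = algebraMap k (DualNumber k) (fst (c : DualNumber k)) +
      ∑ _i : Fin 1, (snd (c : DualNumber k)) • (inr 1 : DualNumber k)
    refine TrivSqZeroExt.ext ?_ ?_ <;> simp [TrivSqZeroExt.algebraMap_eq_inl]
  res_y _ := fst_inr k (1 : k)
  ℓ_y i := funext fun j => by
    obtain rfl : i = j := Subsingleton.elim _ _
    exact (snd_inr k (1 : k)).trans (Pi.single_eq_same (M := fun _ : Fin 1 => k) i 1).symm
  mul_y _ _ := TrivSqZeroExt.inr_mul_inr k (1 : k) (1 : k)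

/-- The two unit vectors. -/
def e2 (i : Fin 2) : k × k := if i = 0 then (1, 0) else (0, 1)

/-- The coordinates on `k[ε₁, ε₂]`. -/
def dual2Basis : SqBasis (Art.dual2 k k) 2 where
  y i := (inr (e2 i) : TrivSqZeroExt k (k × k))
  ℓ := LinearMap.pi fun i => if i = 0 then (LinearMap.fst k k k).comp (TrivSqZeroExt.sndHom k (k × k))
    else (LinearMap.snd k k k).comp (TrivSqZeroExt.sndHom k (k × k))
  decomp c := by
    change (c : TrivSqZeroExt k (k × k)) = algebraMap k (TrivSqZeroExt k (k × k)) (fst (c : TrivSqZeroExt k (k × k))) +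
      ∑ i : Fin 2, (if i = 0 then (LinearMap.fst k k k).comp (TrivSqZeroExt.sndHom k (k × k))
        else (LinearMap.snd k k k).comp (TrivSqZeroExt.sndHom k (k × k))) c • (inr (e2 i) : TrivSqZeroExt k (k × k))
    rw [Fin.sum_univ_two]
    refine TrivSqZeroExt.ext ?_ (Prod.ext ?_ ?_) <;> simp [TrivSqZeroExt.algebraMap_eq_inl, e2]
  res_y i := fst_inr k (e2 (k := k) i)
  ℓ_y i := funext fun j => by
    change (if j = 0 then (LinearMap.fst k k k).comp (TrivSqZeroExt.sndHom k (k × k))
        else (LinearMap.snd k k k).comp (TrivSqZeroExt.sndHom k (k × k))) (inr (e2 i) : TrivSqZeroExt k (k × k)) = _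
    fin_cases i <;> fin_cases j <;> simp [e2]
  mul_y i j := TrivSqZeroExt.inr_mul_inr k (e2 (k := k) i) (e2 j)

variable {X : Scheme.{u}} [X.Over (Spec (CommRingCat.of k))]

/-- The structure scalar is the global one restricted. -/
theorem str_eq (U : AffineZariskiSite X) (c : k) :
    str (X ↘ Spec (CommRingCat.of k)) U c = X.presheaf.map (homOfLE (le_top : U.toOpens ≤ ⊤)).op (Coh.toGlobal (X ↘ Spec (CommRingCat.of k)) c) := rfl

/-- The unit section. -/
def one (W : X.Opens) : Γ(Coh.structureModule X, W) := OmegaSh.strSect X W 1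

omit [X.Over (Spec (CommRingCat.of k))] in
theorem strSect_eq (W : X.Opens) (r : Γ(X, W)) : OmegaSh.strSect X W r = r • one W := by
  rw [one, ← OmegaSh.strSect_mul, mul_one]

omit [X.Over (Spec (CommRingCat.of k))] in
theorem eq_smul_one (W : X.Opens) (v : Γ(Coh.structureModule X, W)) :
    v = OmegaSh.fnSect X W v • one W := by
  rw [← strSect_eq]
  rfl

omit [X.Over (Spec (CommRingCat.of k))] in
theorem fnSect_smul_one (W : X.Opens) (r : Γ(X, W)) : OmegaSh.fnSect X W (r • one W) = r := by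
  rw [← strSect_eq]
  rfl

variable [QuasiSeparated (X ↘ Spec (CommRingCat.of k))] {S : ShortComplex X.Modules}

/-- The extension family of a short exact sequence with free kernel. -/
def famOf {n : ℕ} {K E : X.Modules} (f : K ⟶ E) (g : E ⟶ Omega.sheaf (X ↘ Spec (CommRingCat.of k))) (w : f ≫ g = 0)
    (hS : (ShortComplex.mk f g w).ShortExact) (hK : Coh.IsQCoh K)
    (inc : Fin n → (Coh.structureModule X ⟶ K)) (pr : Fin n → (K ⟶ Coh.structureModule X))
    (h1 : ∀ i, inc i ≫ pr i = 𝟙 _) (h0 : ∀ i j, i ≠ j → inc i ≫ pr j = 0)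
    (htot : ∑ i, pr i ≫ inc i = 𝟙 K) : ExtFam (X ↘ Spec (CommRingCat.of k)) n where
  E := E
  e U i := (inc i ≫ f).app U.toOpens (one U.toOpens)
  e_map {U V} h i := by
    rw [← QCoh.map_app_comm]
    refine congrArg _ ((OmegaSh.strSect_map U.toOpens (AffineZariskiSite.toOpens_mono h) 1).symm.trans ?_)
    rw [map_one]
    rfl
  π := g
  π_e U i := QCoh.app_g_f (S := ShortComplex.mk f g w) _ ((inc i).app U.toOpens (one U.toOpens))
  inj U a ha := by
    let v : Γ(K, U.toOpens) := ∑ i, a i • (inc i).app U.toOpens (one U.toOpens)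
    have hv : v = 0 := QCoh.app_f_injective hS U.toOpens (by
      refine Eq.trans ?_ (ha.trans (map_zero _).symm)
      rw [map_sum]
      exact Finset.sum_congr rfl fun i _ => Scheme.Modules.Hom.app_smul ..)
    funext j
    have h2 : (pr j).app U.toOpens v = 0 := by rw [hv, map_zero]
    rw [map_sum, Finset.sum_eq_single j] at h2
    · rw [Scheme.Modules.Hom.app_smul, ← ConcreteCategory.comp_apply, ← Scheme.Modules.Hom.comp_app, h1] at h2
      exact (fnSect_smul_one U.toOpens (a j)).symm.trans ((congrArg _ h2).trans (map_zero _))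
    · intro i _ hij
      rw [Scheme.Modules.Hom.app_smul, ← ConcreteCategory.comp_apply, ← Scheme.Modules.Hom.comp_app, h0 i j hij,
        Scheme.Modules.Hom.zero_app]
      exact smul_zero _
    · exact fun h => absurd (Finset.mem_univ j) h
  exact U v hv := by
    obtain ⟨b, rfl⟩ := QCoh.exists_app_f_eq hS U.toOpens v hv
    refine ⟨fun i => OmegaSh.fnSect X U.toOpens ((pr i).app U.toOpens b), ?_⟩
    have hb : b = ∑ i, (pr i ≫ inc i).app U.toOpens b := by
      conv_lhs => rw [show b = (𝟙 K : K ⟶ K).app U.toOpens b by rw [Scheme.Modules.Hom.id_app]; rfl, ← htot]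
      rw [QCoh.app_sum]
    conv_rhs => rw [hb, map_sum]
    refine Finset.sum_congr rfl fun i _ => ?_
    refine (Scheme.Modules.Hom.app_smul ..).symm.trans ?_
    rw [← eq_smul_one]
    rfl
  surj U := QCoh.app_surjective_of_shortExact hS hK U.2

section One

variable {E : X.Modules} (f : Coh.structureModule X ⟶ E) (g : E ⟶ Omega.sheaf (X ↘ Spec (CommRingCat.of k))) (w : f ≫ g = 0)
  (hS : (ShortComplex.mk f g w).ShortExact)

/-- The family of an extension by `O`. -/
def fam1 : ExtFam (X ↘ Spec (CommRingCat.of k)) 1 :=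
  famOf f g w hS QCoh.isQCoh_structureModule (fun _ => 𝟙 _) (fun _ => 𝟙 _) (fun _ => Category.id_comp _)
    (fun i j h => absurd (Subsingleton.elim i j) h) (by simp)

/-- The deformation of an extension by `O`. -/
def defClass : (defFunctor (Λ := k) X (X ↘ Spec (CommRingCat.of k))).obj (Art.dual k k) :=
  ((fam1 f g w hS).pdef dualBasis).toDefSch.cl

theorem fam1_e (U : AffineZariskiSite X) (i : Fin 1) :
    (fam1 f g w hS).e U i = f.app U.toOpens (one U.toOpens) := by
  change (𝟙 _ ≫ f).app U.toOpens (one U.toOpens) = _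
  rw [Category.id_comp]

end One

variable [HasExt.{u} X.Modules]

/-- A compatibility of classes gives a base change of deformations. -/
theorem map_scale_defClass {E E' : X.Modules} (f : Coh.structureModule X ⟶ E) (g : E ⟶ Omega.sheaf (X ↘ Spec (CommRingCat.of k)))
    (w : f ≫ g = 0) (hS : (ShortComplex.mk f g w).ShortExact) (f' : Coh.structureModule X ⟶ E')
    (g' : E' ⟶ Omega.sheaf (X ↘ Spec (CommRingCat.of k))) (w' : f' ≫ g' = 0) (hS' : (ShortComplex.mk f' g' w').ShortExact) (c : k)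
    (h : c • hS.extClass = hS'.extClass) :
    (defFunctor (Λ := k) X (X ↘ Spec (CommRingCat.of k))).map (Art.scale c) (defClass f g w hS) = defClass f' g' w' hS' := by
  obtain ⟨μ, h₁, h₂⟩ := BlendLib.exists_hom_of_extClass hS hS' (c • 𝟙 (Coh.structureModule X)) (𝟙 _) (by
    rw [Ext.mk₀_id_comp, ← Ext.smul_eq_comp_mk₀]
    exact h)
  refine map_cl_pHom _ ((fam1 f g w hS).pHom dualBasis (B' := dualBasis) (S' := fam1 f' g' w' hS')
    (Art.scale c) μ (h₂.symm.trans (Category.comp_id _)) fun U i => ?_)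
  rw [fam1_e, Fin.sum_univ_one, fam1_e]
  refine (congr(($h₁).app U.toOpens (one U.toOpens))).trans ?_
  dsimp only
  rw [show (c • 𝟙 (Coh.structureModule X)) ≫ f' = c • f' from by rw [Linear.smul_comp, Category.id_comp],
    KLin.smul_app_apply, ← str_eq]
  congr 2
  exact ((mul_one c).symm.trans (congrArg (c * ·) (snd_inr k (1 : k)).symm))

theorem defClass_congr {E E' : X.Modules} (f : Coh.structureModule X ⟶ E) (g : E ⟶ Omega.sheaf (X ↘ Spec (CommRingCat.of k)))
    (w : f ≫ g = 0) (hS : (ShortComplex.mk f g w).ShortExact) (f' : Coh.structureModule X ⟶ E')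
    (g' : E' ⟶ Omega.sheaf (X ↘ Spec (CommRingCat.of k))) (w' : f' ≫ g' = 0) (hS' : (ShortComplex.mk f' g' w').ShortExact)
    (h : hS.extClass = hS'.extClass) : defClass f g w hS = defClass f' g' w' hS' := by
  rw [← map_scale_defClass f g w hS f' g' w' hS' 1 (by rw [one_smul, h]),
    show Art.scale (Λ := k) (1 : k) = 𝟙 _ from Art.hom_ext (AlgHom.ext fun z =>
      TrivSqZeroExt.ext rfl (one_mul _)), CategoryTheory.Functor.map_id]
  rfl

variable (X) in
/-- The deformation of a class. -/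
def psi (c : Ext.{u} (Omega.sheaf (X ↘ Spec (CommRingCat.of k))) (Coh.structureModule X) 1) :
    (defFunctor (Λ := k) X (X ↘ Spec (CommRingCat.of k))).obj (Art.dual k k) :=
  let h := BlendLib.exists_extClass_eq c
  defClass _ _ _ h.choose_spec.choose_spec.choose_spec.choose_spec.choose

theorem psi_extClass {E : X.Modules} (f : Coh.structureModule X ⟶ E) (g : E ⟶ Omega.sheaf (X ↘ Spec (CommRingCat.of k)))
    (w : f ≫ g = 0) (hS : (ShortComplex.mk f g w).ShortExact) : psi X hS.extClass = defClass f g w hS :=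
  defClass_congr _ _ _ _ f g w hS
    (BlendLib.exists_extClass_eq hS.extClass).choose_spec.choose_spec.choose_spec.choose_spec.choose_spec

theorem exists_eq_psi (c : Ext.{u} (Omega.sheaf (X ↘ Spec (CommRingCat.of k))) (Coh.structureModule X) 1) :
    ∃ (E : X.Modules) (f : Coh.structureModule X ⟶ E) (g : E ⟶ Omega.sheaf (X ↘ Spec (CommRingCat.of k))) (w : f ≫ g = 0)
      (hS : (ShortComplex.mk f g w).ShortExact), hS.extClass = c ∧ psi X c = defClass f g w hS := by
  obtain ⟨E, f, g, w, hS, rfl⟩ := BlendLib.exists_extClass_eq c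
  exact ⟨E, f, g, w, hS, rfl, psi_extClass f g w hS⟩

theorem psi_smul (a : k) (c : Ext.{u} (Omega.sheaf (X ↘ Spec (CommRingCat.of k))) (Coh.structureModule X) 1) :
    psi X (a • c) = (defFunctor (Λ := k) X (X ↘ Spec (CommRingCat.of k))).map (Art.scale a) (psi X c) := by
  obtain ⟨E, f, g, w, hS, rfl, hc⟩ := exists_eq_psi c
  obtain ⟨E', f', g', w', hS', hcl, hc'⟩ := exists_eq_psi (a • hS.extClass)
  rw [hc, hc', map_scale_defClass f g w hS f' g' w' hS' a hcl.symm]

theorem exists_dual2 (c₁ c₂ : Ext.{u} (Omega.sheaf (X ↘ Spec (CommRingCat.of k))) (Coh.structureModule X) 1) :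
    ∃ z : (defFunctor (Λ := k) X (X ↘ Spec (CommRingCat.of k))).obj (Art.dual2 k k),
      (defFunctor (Λ := k) X (X ↘ Spec (CommRingCat.of k))).map Art.pr₁ z = psi X c₁ ∧
      (defFunctor (Λ := k) X (X ↘ Spec (CommRingCat.of k))).map Art.pr₂ z = psi X c₂ ∧
      (defFunctor (Λ := k) X (X ↘ Spec (CommRingCat.of k))).map Art.plus z = psi X (c₁ + c₂) := by
  let O := Coh.structureModule X
  let i₀ : O ⟶ O ⊞ O := biprod.inl
  let i₁ : O ⟶ O ⊞ O := biprod.inr
  let p₀ : O ⊞ O ⟶ O := biprod.fst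
  let p₁ : O ⊞ O ⟶ O := biprod.snd
  let inc : Fin 2 → (O ⟶ O ⊞ O) := fun i => if i = 0 then i₀ else i₁
  let pr : Fin 2 → (O ⊞ O ⟶ O) := fun i => if i = 0 then p₀ else p₁
  obtain ⟨P, f, g, w, hS, hcl⟩ := BlendLib.exists_extClass_eq
    (c₁.comp (Ext.mk₀ i₀) (add_zero 1) + c₂.comp (Ext.mk₀ i₁) (add_zero 1))
  have hK : Coh.IsQCoh (O ⊞ O) := QCoh.isQCoh_X₂ (ShortComplex.Splitting.ofHasBinaryBiproduct O O).shortExact
    QCoh.isQCoh_structureModule QCoh.isQCoh_structureModule
  let F := famOf (n := 2) f g w hS hK inc pr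
    (fun i => by fin_cases i <;> simp [inc, pr, i₀, i₁, p₀, p₁])
    (fun i j h => by fin_cases i <;> fin_cases j <;> simp [inc, pr, i₀, i₁, p₀, p₁] at h ⊢)
    (by rw [Fin.sum_univ_two]; simp [inc, pr, i₀, i₁, p₀, p₁, O])
  refine ⟨(F.pdef dual2Basis).toDefSch.cl, ?_⟩
  have key : ∀ (φ : O ⊞ O ⟶ O) (G : Art.dual2 k k ⟶ Art.dual k k)
      (c : Ext.{u} (Omega.sheaf (X ↘ Spec (CommRingCat.of k))) (Coh.structureModule X) 1),
      c₁.comp (Ext.mk₀ (i₀ ≫ φ)) (add_zero 1) + c₂.comp (Ext.mk₀ (i₁ ≫ φ)) (add_zero 1) = c →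
      ∀ t : Fin 2 → k, (∀ i, inc i ≫ φ = t i • 𝟙 O) →
        (∀ i, snd (show DualNumber k from G (dual2Basis.y i)) = t i) →
      (defFunctor (Λ := k) X (X ↘ Spec (CommRingCat.of k))).map G (F.pdef dual2Basis).toDefSch.cl = psi X c := by
    intro φ G c hc t hG ht
    obtain ⟨E, f', g', w', hS', hcl', hc'⟩ := exists_eq_psi c
    rw [hc']
    obtain ⟨μ, h₁, h₂⟩ := BlendLib.exists_hom_of_extClass hS hS' φ (𝟙 _) (by
      rw [Ext.mk₀_id_comp, hcl', hcl, Ext.add_comp, Ext.comp_assoc_of_third_deg_zero, Ext.mk₀_comp_mk₀,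
        Ext.comp_assoc_of_third_deg_zero, Ext.mk₀_comp_mk₀]
      exact hc)
    refine map_cl_pHom _ (F.pHom dual2Basis (B' := dualBasis) (S' := fam1 f' g' w' hS') G μ
      (h₂.symm.trans (Category.comp_id _)) fun U i => ?_)
    rw [Fin.sum_univ_one, fam1_e]
    refine (congr(($(show (inc i ≫ f) ≫ μ = (inc i ≫ φ) ≫ f' from by
      rw [Category.assoc, Category.assoc]; exact congrArg (inc i ≫ ·) h₁)).app U.toOpens (one U.toOpens))).trans ?_
    rw [hG, show (t i • 𝟙 O) ≫ f' = t i • f' from by rw [Linear.smul_comp, Category.id_comp],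
      KLin.smul_app_apply, ← str_eq, ← ht i]
    rfl
  refine ⟨key p₀ _ _ ?_ ![1, 0] ?_ ?_, key p₁ _ _ ?_ ![0, 1] ?_ ?_, key (p₀ + p₁) _ _ ?_ ![1, 1] ?_ ?_⟩
  · simp [i₀, i₁, p₀, O]
  · intro i; fin_cases i <;> simp [inc, i₀, i₁, p₀, O]
  · intro i; fin_cases i <;> rfl
  · simp [i₀, i₁, p₁, O]
  · intro i; fin_cases i <;> simp [inc, i₀, i₁, p₁, O]
  · intro i; fin_cases i <;> rfl
  · simp [i₀, i₁, p₀, p₁, O]
  · intro i; fin_cases i <;> simp [inc, i₀, i₁, p₀, p₁, O]
  · intro i
    fin_cases i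
    · exact add_zero (1 : k)
    · exact zero_add (1 : k)

theorem psi_zero_imp (c : Ext.{u} (Omega.sheaf (X ↘ Spec (CommRingCat.of k))) (Coh.structureModule X) 1)
    (h : psi X c = psi X 0) : c = 0 := by
  obtain ⟨E, f, g, w, hS, rfl, hc⟩ := exists_eq_psi c
  let O := Coh.structureModule X
  let T := ShortComplex.Splitting.ofHasBinaryBiproduct O (Omega.sheaf (X ↘ Spec (CommRingCat.of k)))
  let f₀ : O ⟶ O ⊞ Omega.sheaf (X ↘ Spec (CommRingCat.of k)) := biprod.inl
  let g₀ : O ⊞ Omega.sheaf (X ↘ Spec (CommRingCat.of k)) ⟶ Omega.sheaf (X ↘ Spec (CommRingCat.of k)) := biprod.snd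
  have w₀ : f₀ ≫ g₀ = 0 := biprod.inl_snd
  have hS₀ : (ShortComplex.mk f₀ g₀ w₀).ShortExact := T.shortExact
  have h0 : hS₀.extClass = 0 := by
    have h1 := congrArg (fun z => (Ext.mk₀ (biprod.inr : Omega.sheaf (X ↘ Spec (CommRingCat.of k)) ⟶ O ⊞ Omega.sheaf (X ↘ Spec (CommRingCat.of k)))).comp z (zero_add 1))
      hS₀.comp_extClass
    simp only [Ext.comp_zero, Ext.mk₀_comp_mk₀_assoc] at h1
    rw [show (biprod.inr : Omega.sheaf (X ↘ Spec (CommRingCat.of k)) ⟶ O ⊞ Omega.sheaf (X ↘ Spec (CommRingCat.of k))) ≫ g₀ = 𝟙 _ from biprod.inr_snd] at h1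
    simpa using h1
  rw [hc, ← h0, psi_extClass] at h
  obtain ⟨φ⟩ := exists_pHom_of_cl_eq _ h.symm
  let F₀ := fam1 f₀ g₀ w₀ hS₀
  let F₁ := fam1 f g w hS
  let sec : ∀ (U : AffineZariskiSite X) (a : Γ(X, U.toOpens)), F₀.ring U := fun U a =>
    ⟨(inl a + inr ((biprod.inr : Omega.sheaf (X ↘ Spec (CommRingCat.of k)) ⟶ O ⊞ Omega.sheaf (X ↘ Spec (CommRingCat.of k))).app U.toOpens (ExtFam.dU U a)) :
      TrivSqZeroExt Γ(X, U.toOpens) Γ((O ⊞ Omega.sheaf (X ↘ Spec (CommRingCat.of k)) : X.Modules), U.toOpens)), by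
      change g₀.app U.toOpens (snd _) = ExtFam.dU U (fst _)
      simp only [snd_add, snd_inl, snd_inr, zero_add, fst_add, fst_inl, fst_inr, add_zero]
      rw [← ConcreteCategory.comp_apply, ← Scheme.Modules.Hom.comp_app, biprod.inr_snd, Scheme.Modules.Hom.id_app]
      rfl⟩
  have hsec_fst : ∀ U a, fst (sec U a).1 = a := fun U a => by simp [sec]
  have hsec_snd : ∀ U a, snd (sec U a).1 =
      (biprod.inr : Omega.sheaf (X ↘ Spec (CommRingCat.of k)) ⟶ O ⊞ Omega.sheaf (X ↘ Spec (CommRingCat.of k))).app U.toOpens (ExtFam.dU U a) := fun U a => by simp [sec]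
  let Φ : ∀ U : AffineZariskiSite X, F₀.ring U →+* F₁.ring U := fun U => (φ.app.app (op U)).hom
  have hfst : ∀ (U : AffineZariskiSite X) (z : F₀.ring U), fst (Φ U z).1 = fst z.1 :=
    fun U z => congr($(φ.q_app).app (op U) z)
  let σ : ∀ (U : AffineZariskiSite X), Γ(X, U.toOpens) → Γ(E, U.toOpens) := fun U a =>
    snd (Φ U (sec U a)).1
  let D : ModFam (X ↘ Spec (CommRingCat.of k)) E :=
    { D := σ
      add := fun U s t => by
        change snd (Φ U (sec U (s + t))).1 = _
        rw [show sec U (s + t) = sec U s + sec U t from F₀.ring_ext (by simp [hsec_fst])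
          ((hsec_snd U _).trans ((congrArg _ (map_add ((OmegaSh.dOmega (X ↘ Spec (CommRingCat.of k))).app U.toOpens) s t)).trans
            ((map_add _ _ _).trans (by rw [Subring.coe_add, snd_add, hsec_snd, hsec_snd]; rfl)))), map_add]
        rfl
      map := fun {U V} h s => by
        change snd (Φ V (sec V _)).1 = _
        rw [show sec V (X.presheaf.map (homOfLE (AffineZariskiSite.toOpens_mono h)).op s) = F₀.res h (sec U s) from
          F₀.ring_ext (by rw [ExtFam.fst_res, hsec_fst, hsec_fst])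
            (by rw [ExtFam.snd_res, hsec_snd, hsec_snd, ExtFam.dU_map h]; exact QCoh.map_app_comm ..)]
        rw [show Φ V (F₀.res h (sec U s)) = F₁.res h (Φ U (sec U s)) from
          ConcreteCategory.congr_hom (φ.app.naturality (homOfLE h).op) (sec U s), ExtFam.snd_res]
        rfl
      mul := fun U s t => by
        change snd (Φ U (sec U (s * t))).1 = _
        rw [show sec U (s * t) = sec U s * sec U t from F₀.ring_ext (by simp [hsec_fst]) (by
          rw [hsec_snd, Subring.coe_mul, snd_mul, hsec_fst, hsec_fst, op_smul_eq_smul, hsec_snd, hsec_snd,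
            ← Scheme.Modules.Hom.app_smul, ← Scheme.Modules.Hom.app_smul]
          exact (congrArg _ ((OmegaSh.dOmega (X ↘ Spec (CommRingCat.of k))).d_mul (X := op U.toOpens) s t)).trans
            (map_add _ _ _)), map_mul, Subring.coe_mul, snd_mul,
          hfst, hfst, hsec_fst, hsec_fst, op_smul_eq_smul]
      str := fun U c => by
        change snd (Φ U (sec U (str (X ↘ Spec (CommRingCat.of k)) U c))).1 = 0
        rw [show sec U (str (X ↘ Spec (CommRingCat.of k)) U c) = F₀.coeff dualBasis U (algebraMap k (Art.dual k k) c) from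
          F₀.ring_ext (by rw [hsec_fst, ExtFam.fst_coeff, (Art.dual k k).res.commutes]; rfl)
            (by rw [hsec_snd, ExtFam.dU_str, map_zero, ExtFam.snd_coeff, SqBasis.ℓ_algebraMap]; simp)]
        rw [show Φ U (F₀.coeff dualBasis U (algebraMap k (Art.dual k k) c)) =
            F₁.coeff dualBasis U (algebraMap k (Art.dual k k) c) from φ.comm (op U) _,
          ExtFam.snd_coeff, SqBasis.ℓ_algebraMap]
        simp }
  obtain ⟨θ, hθ⟩ := D.exists_hom
  have hsplit : θ ≫ g = 𝟙 _ := omega_hom_ext (X ↘ Spec (CommRingCat.of k)) fun U a => by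
    rw [Scheme.Modules.Hom.comp_app, Scheme.Modules.Hom.id_app, ConcreteCategory.comp_apply]
    refine (congrArg (g.app U.toOpens) (hθ U a)).trans ?_
    exact (Φ U (sec U a)).2.trans (congrArg _ ((hfst U _).trans (hsec_fst U a)))
  calc hS.extClass = (Ext.mk₀ θ).comp ((Ext.mk₀ g).comp hS.extClass (zero_add 1)) (zero_add 1) := by
        rw [Ext.mk₀_comp_mk₀_assoc, hsplit, Ext.mk₀_id_comp]
    _ = 0 := by rw [show (Ext.mk₀ g).comp hS.extClass (zero_add 1) = 0 from hS.comp_extClass, Ext.comp_zero]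

variable [TangentStr (defFunctor (Λ := k) X (X ↘ Spec (CommRingCat.of k)))]

variable (X) in
/-- The linear map from `Ext¹` to the tangent space. -/
def psiLin : Ext.{u} (Omega.sheaf (X ↘ Spec (CommRingCat.of k))) (Coh.structureModule X) 1 →ₗ[k]
    TangentSpace (defFunctor (Λ := k) X (X ↘ Spec (CommRingCat.of k))) where
  toFun := psi X
  map_add' c₁ c₂ := by
    obtain ⟨z, h₁, h₂, h₃⟩ := exists_dual2 c₁ c₂
    refine h₃.symm.trans ?_
    refine (TangentStr.add_eq z).symm.trans ?_
    rw [h₁, h₂]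
  map_smul' a c := (psi_smul a c).trans (TangentStr.smul_eq a (psi X c)).symm

theorem psiLin_injective : Function.Injective (psiLin (k := k) X) := by
  rw [injective_iff_map_eq_zero]
  exact fun c hc => psi_zero_imp c (hc.trans (map_zero (psiLin (k := k) X)).symm)

end Groth.Agent.H9DefExt
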