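import Groth.Agent.H9DefExt.Psi
import Groth.Agent.H9DefAut.Tangent
import Groth.Agent.QCoh.PullbackBC
import Groth.Agent.OmegaUniv.Unram
import Groth.Agent.InvX.Tensor
import Groth.Agent.ZClosLib.Basic
import Groth.Prelude.Def_OmAff
import Mathlib.RingTheory.Smooth.Basic
import Mathlib.AlgebraicGeometry.Morphisms.Smooth

/-! Every first-order deformation of a smooth scheme comes from an extension. -/

set_option autoImplicit false
set_option linter.style.haveILetI false
set_option backward.isDefEq.respectTransparency false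
set_option backward.isDefEq.respectTransparency.types false

universe u

open CategoryTheory CategoryTheory.Limits AlgebraicGeometry TopologicalSpace Opposite ArtFun TrivSqZeroExt Abelian

noncomputable section

namespace Groth.Agent.H9DefExt

open Scheme (AffineZariskiSite)
open Groth.Agent.DefGlueLib

variable {k : Type u} [Field k]

/-- The structure map of the dual numbers on spectra. -/
abbrev dualBase : Art.spec (Art.dual k k) ⟶ Spec (CommRingCat.of k) :=
  Spec.map (CommRingCat.ofHom (algebraMap k (Art.dual k k)))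

theorem specRes_dualBase : Art.specRes (Art.dual k k) ≫ dualBase = 𝟙 _ := by
  refine (Spec.map_comp _ _).symm.trans ((congrArg Spec.map ?_).trans (Spec.map_id _))
  exact CommRingCat.hom_ext (RingHom.ext fun c => (Art.dual k k).res.commutes c)

variable {X : Scheme.{u}} {x : X ⟶ Spec (CommRingCat.of k)} [QuasiSeparated x]
  (ξ : DefSch X x (Art.dual k k))

/-- The total space over the field. -/
def tb : ξ.total ⟶ Spec (CommRingCat.of k) := ξ.f ≫ dualBase

theorem i_tb : ξ.i ≫ tb ξ = x := by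
  rw [tb, ← Category.assoc, ξ.i_f, Category.assoc, specRes_dualBase]
  exact Category.comp_id _

instance quasiSeparated_tb : QuasiSeparated (tb ξ) := by
  have hX : QuasiSeparatedSpace X := quasiSeparatedSpace_of_quasiSeparated x
  have hh : Topology.IsClosedEmbedding ξ.i := ξ.i.isClosedEmbedding
  have hs : Function.Surjective ξ.i := ξ.i.surjective
  haveI : QuasiSeparatedSpace ξ.total := ⟨fun U V hUo hUc hVo hVc => by
    have h1 : IsCompact (ξ.i ⁻¹' U ∩ ξ.i ⁻¹' V) := QuasiSeparatedSpace.inter_isCompact (ξ.i ⁻¹' U) (ξ.i ⁻¹' V)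
      (hUo.preimage ξ.i.continuous) (hh.isCompact_preimage hUc) (hVo.preimage ξ.i.continuous)
      (hh.isCompact_preimage hVc)
    have h2 := h1.image ξ.i.continuous
    rwa [← Set.preimage_inter, Set.image_preimage_eq _ hs] at h2⟩
  infer_instance

theorem secA_algebraMap (V : ξ.total.Opens) (c : k) :
    secA ξ V (algebraMap k (Art.dual k k) c) =
      (tb ξ).appLE ⊤ V le_top ((Scheme.ΓSpecIso (CommRingCat.of k)).inv c) := by
  refine DFunLike.congr_fun (f := (secA ξ V).comp (algebraMap k (Art.dual k k)))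
    (g := ((Scheme.ΓSpecIso (CommRingCat.of k)).inv ≫ (tb ξ).appLE ⊤ V le_top).hom) ?_ c
  rw [show (secA ξ V).comp (algebraMap k (Art.dual k k)) = (CommRingCat.ofHom (algebraMap k (Art.dual k k)) ≫
    (Scheme.ΓSpecIso (CommRingCat.of (Art.dual k k))).inv ≫ ξ.f.appLE ⊤ V le_top).hom from rfl]
  refine congrArg CommRingCat.Hom.hom ?_
  rw [Scheme.ΓSpecIso_inv_naturality_assoc]
  refine congrArg (_ ≫ ·) ?_
  rw [Scheme.Hom.appTop, Scheme.Hom.app_eq_appLE]
  exact Scheme.Hom.appLE_comp_appLE _ _ _ _ _ _ _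

/-- The middle term. -/
abbrev mid : X.Modules := (Scheme.Modules.pullback ξ.i).obj (Omega.sheaf (tb ξ))

/-- The differential on the deformation, restricted to the closed fibre. -/
def dP {W : X.Opens} {V : ξ.total.Opens} (h : W ≤ ξ.i ⁻¹ᵁ V) (r : Γ(ξ.total, V)) : Γ(mid ξ, W) :=
  QCoh.pullSec ξ.i (Omega.sheaf (tb ξ)) h ((OmegaSh.dOmega (tb ξ)).app V r)

theorem dP_add {W : X.Opens} {V : ξ.total.Opens} (h : W ≤ ξ.i ⁻¹ᵁ V) (r s : Γ(ξ.total, V)) :
    dP ξ h (r + s) = dP ξ h r + dP ξ h s := by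
  rw [dP, map_add, QCoh.pullSec_add]
  rfl

theorem dP_mul {W : X.Opens} {V : ξ.total.Opens} (h : W ≤ ξ.i ⁻¹ᵁ V) (r s : Γ(ξ.total, V)) :
    dP ξ h (r * s) = ξ.i.appLE V W h r • dP ξ h s + ξ.i.appLE V W h s • dP ξ h r := by
  rw [dP, show (OmegaSh.dOmega (tb ξ)).app V (r * s) = r • (OmegaSh.dOmega (tb ξ)).app V s +
    s • (OmegaSh.dOmega (tb ξ)).app V r from (OmegaSh.dOmega (tb ξ)).d_mul (X := op V) r s,
    QCoh.pullSec_add, QCoh.pullSec_smul, QCoh.pullSec_smul]
  rfl

theorem dP_secA {W : X.Opens} {V : ξ.total.Opens} (h : W ≤ ξ.i ⁻¹ᵁ V) (c : k) :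
    dP ξ h (secA ξ V (algebraMap k (Art.dual k k) c)) = 0 := by
  rw [dP, secA_algebraMap]
  refine (congrArg (QCoh.pullSec ξ.i (Omega.sheaf (tb ξ)) h)
    (OmAff.dSect_appLE (tb ξ) ⊤ V le_top _)).trans ?_
  have h2 := QCoh.pullSec_add ξ.i (Omega.sheaf (tb ξ)) h 0 0
  rw [add_zero] at h2
  exact left_eq_add.1 h2

theorem pullSec_res {M : ξ.total.Modules} {W W' : X.Opens} {V V' : ξ.total.Opens} (h : W ≤ ξ.i ⁻¹ᵁ V)
    (h' : W' ≤ ξ.i ⁻¹ᵁ V') (hW : W' ≤ W) (hV : V' ≤ V) (m : Γ(M, V)) :
    ((Scheme.Modules.pullback ξ.i).obj M).presheaf.map (homOfLE hW).op (QCoh.pullSec ξ.i M h m) =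
      QCoh.pullSec ξ.i M h' (M.presheaf.map (homOfLE hV).op m) := by
  unfold QCoh.pullSec
  have h1 : (show Γ((Scheme.Modules.pullback ξ.i).obj M, ξ.i ⁻¹ᵁ V') from
      ((Scheme.Modules.pullbackPushforwardAdjunction ξ.i).unit.app M).app V' (M.presheaf.map (homOfLE hV).op m)) =
      ((Scheme.Modules.pullback ξ.i).obj M).presheaf.map ((Opens.map ξ.i.base).map (homOfLE hV)).op
        (((Scheme.Modules.pullbackPushforwardAdjunction ξ.i).unit.app M).app V m) :=
    QCoh.map_app_comm _ _ _
  rw [h1]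
  refine (QCoh.map_map (M := (Scheme.Modules.pullback ξ.i).obj M) _ _ _).trans (Eq.trans ?_
    (QCoh.map_map (M := (Scheme.Modules.pullback ξ.i).obj M) (homOfLE h') ((Opens.map ξ.i.base).map (homOfLE hV)) _).symm)
  rfl

theorem dP_res {W W' : X.Opens} {V V' : ξ.total.Opens} (h : W ≤ ξ.i ⁻¹ᵁ V) (h' : W' ≤ ξ.i ⁻¹ᵁ V')
    (hW : W' ≤ W) (hV : V' ≤ V) (r : Γ(ξ.total, V)) :
    (mid ξ).presheaf.map (homOfLE hW).op (dP ξ h r) = dP ξ h' (ξ.total.presheaf.map (homOfLE hV).op r) := by
  rw [dP, dP, pullSec_res ξ h h' hW hV]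
  exact congrArg _ ((OmegaSh.dOmega (tb ξ)).d_map (homOfLE hV).op r).symm

theorem dOmega_appLE {W : X.Opens} {U : (Spec (CommRingCat.of k)).Opens} (e : W ≤ x ⁻¹ᵁ U)
    (c : Γ(Spec (CommRingCat.of k), U)) : (OmegaSh.dOmega x).app W (x.appLE U W e c) = 0 :=
  OmAff.dSect_appLE x U W e c

/-- The differential of the closed fibre, seen on the total space. -/
def derPush : OmegaSh.Der (tb ξ) ((Scheme.Modules.pushforward ξ.i).obj (Omega.sheaf x)) where
  d {V} :=
    { toFun := fun s => (OmegaSh.dOmega x).app (ξ.i ⁻¹ᵁ V.unop) (ξ.i.app V.unop s)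
      map_zero' := by
        show (OmegaSh.dOmega x).app (ξ.i ⁻¹ᵁ V.unop) (ξ.i.app V.unop 0) = 0
        rw [map_zero, map_zero]
      map_add' := fun s t => by
        show (OmegaSh.dOmega x).app (ξ.i ⁻¹ᵁ V.unop) (ξ.i.app V.unop (s + t)) = _
        rw [map_add, map_add]}
  d_mul {V} s t := by
    show (OmegaSh.dOmega x).app (ξ.i ⁻¹ᵁ V.unop) (ξ.i.app V.unop (s * t)) = _
    rw [map_mul]
    exact (OmegaSh.dOmega x).d_mul (X := op (ξ.i ⁻¹ᵁ V.unop)) _ _
  d_map {V V'} i s := by
    show (OmegaSh.dOmega x).app (ξ.i ⁻¹ᵁ V'.unop) (ξ.i.app V'.unop (ξ.total.presheaf.map i s)) = _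
    rw [show ξ.i.app V'.unop (ξ.total.presheaf.map i s) = X.presheaf.map ((Opens.map ξ.i.base).map i.unop).op
      (ξ.i.app V.unop s) from ConcreteCategory.congr_hom (ξ.i.naturality i) s]
    exact (OmegaSh.dOmega x).d_map ((Opens.map ξ.i.base).map i.unop).op _
  d_app {U} c := by
    show (OmegaSh.dOmega x).app (ξ.i ⁻¹ᵁ (tb ξ ⁻¹ᵁ U.unop)) (ξ.i.app (tb ξ ⁻¹ᵁ U.unop) ((tb ξ).app U.unop c)) = 0
    rw [← ConcreteCategory.comp_apply, ← Scheme.Hom.comp_app, Scheme.Hom.app_eq_appLE]
    have key : ∀ (g : X ⟶ Spec (CommRingCat.of k)) (W : X.Opens) (e : W ≤ g ⁻¹ᵁ U.unop), g = x →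
        (OmegaSh.dOmega x).app W (g.appLE U.unop W e c) = 0 := by
      intro g W e hg
      subst hg
      exact dOmega_appLE e c
    exact key _ _ _ (i_tb ξ)

/-- The projection to the differentials of the closed fibre. -/
def proj : mid ξ ⟶ Omega.sheaf x :=
  ((Scheme.Modules.pullbackPushforwardAdjunction ξ.i).homEquiv _ _).symm
    (OmegaUniv.isUniversal_dOmega (tb ξ) _ (derPush ξ)).choose

theorem proj_dP {W : X.Opens} {V : ξ.total.Opens} (h : W ≤ ξ.i ⁻¹ᵁ V) (r : Γ(ξ.total, V)) :
    (proj ξ).app W (dP ξ h r) = (OmegaSh.dOmega x).app W (ξ.i.appLE V W h r) := by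
  obtain ⟨hθ, -⟩ := (OmegaUniv.isUniversal_dOmega (tb ξ) _ (derPush ξ)).choose_spec
  have h1 : (Scheme.Modules.pullbackPushforwardAdjunction ξ.i).unit.app (Omega.sheaf (tb ξ)) ≫
      (Scheme.Modules.pushforward ξ.i).map (proj ξ) = (OmegaUniv.isUniversal_dOmega (tb ξ) _ (derPush ξ)).choose :=
    ((Adjunction.homEquiv_unit ..).symm.trans (Equiv.apply_symm_apply _ _))
  unfold dP QCoh.pullSec
  rw [QCoh.map_app_comm]
  have h2 : (proj ξ).app (ξ.i ⁻¹ᵁ V)
      (((Scheme.Modules.pullbackPushforwardAdjunction ξ.i).unit.app (Omega.sheaf (tb ξ))).app V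
        ((OmegaSh.dOmega (tb ξ)).app V r)) = (OmegaSh.dOmega x).app (ξ.i ⁻¹ᵁ V) (ξ.i.app V r) :=
    (congr(($h1).app V ((OmegaSh.dOmega (tb ξ)).app V r))).trans
      (PresheafOfModules.Derivation.congr_d hθ (X := op V) r)
  rw [h2]
  exact ((OmegaSh.dOmega x).d_map (homOfLE h).op _).symm

theorem pullSec_smul' {W : X.Opens} {V : ξ.total.Opens} (h : W ≤ ξ.i ⁻¹ᵁ V) (r : Γ(ξ.total, V))
    (m : Γ(Omega.sheaf (tb ξ), V)) :
    QCoh.pullSec ξ.i (Omega.sheaf (tb ξ)) h (r • m) =
      ξ.i.appLE V W h r • QCoh.pullSec ξ.i (Omega.sheaf (tb ξ)) h m :=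
  QCoh.pullSec_smul ξ.i _ h r m

/-- The element `d ε`. -/
def eU (U : AffineZariskiSite X) : Γ(mid ξ, U.toOpens) :=
  dP ξ (preimage_imOpen ξ U.toOpens).ge (secA ξ (imOpen ξ U.toOpens) H9DefAut.eps)

theorem secA_res {V V' : ξ.total.Opens} (h : V' ≤ V) (c : Art.dual k k) :
    ξ.total.presheaf.map (homOfLE h).op (secA ξ V c) = secA ξ V' c := by
  refine DFunLike.congr_fun (f := (ξ.total.presheaf.map _).hom.comp (secA ξ _)) ?_ c
  rw [← CommRingCat.hom_comp, Category.assoc]
  exact congrArg (fun g => ((Scheme.ΓSpecIso (CommRingCat.of (Art.dual k k))).inv ≫ g).hom)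
    (Scheme.Hom.appLE_map ξ.f _ _)

theorem eU_map {U V : AffineZariskiSite X} (h : V ≤ U) :
    (mid ξ).presheaf.map (homOfLE (AffineZariskiSite.toOpens_mono h)).op (eU ξ U) = eU ξ V := by
  rw [eU, eU, dP_res ξ _ (preimage_imOpen ξ V.toOpens).ge _ (imOpen_mono ξ (AffineZariskiSite.toOpens_mono h)),
    secA_res]

theorem proj_eU (U : AffineZariskiSite X) : (proj ξ).app U.toOpens (eU ξ U) = 0 := by
  rw [eU, proj_dP]
  have h := ((ofSch ξ).isDef (op U)).comm H9DefAut.eps
  rw [show (Art.dual k k).res H9DefAut.eps = 0 from fst_inr k (1 : k), map_zero] at h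
  exact (congrArg _ h).trans (map_zero _)

variable [Smooth x]

theorem exists_section (U : AffineZariskiSite X) :
    ∃ s : Γ(X, U.toOpens) →+* Γ(ξ.total, imOpen ξ U.toOpens),
      (∀ a, ξ.i.appLE _ _ (preimage_imOpen ξ U.toOpens).ge (s a) = a) ∧
      ∀ c, s (str x U c) = secA ξ (imOpen ξ U.toOpens) (algebraMap k (Art.dual k k) c) := by
  let hd := isDef_sec ξ U (preimage_imOpen ξ U.toOpens)
  let A := Γ(X, U.toOpens)
  let R := Γ(ξ.total, imOpen ξ U.toOpens)
  letI : Algebra k A := (str x U).toAlgebra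
  letI : Algebra k R := ((secA ξ (imOpen ξ U.toOpens)).comp (algebraMap k (Art.dual k k))).toAlgebra
  let q : R →ₐ[k] A :=
    { (ξ.i.appLE (imOpen ξ U.toOpens) U.toOpens (preimage_imOpen ξ U.toOpens).ge).hom with
      commutes' := fun c => (hd.comm _).trans (congrArg (str x U) ((Art.dual k k).res.commutes c)) }
  haveI : Algebra.FormallySmooth k A := by
    have h1 : (x.appLE ⊤ U.toOpens le_top).hom.Smooth :=
      HasRingHomProperty.appLE (P := @Smooth) x ‹_› ⟨⊤, isAffineOpen_top _⟩ ⟨U.toOpens, U.2⟩ le_top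
    have h2 : (str x U).Smooth := by
      change ((x.appLE ⊤ U.toOpens le_top).hom.comp (Scheme.ΓSpecIso (CommRingCat.of k)).inv.hom).Smooth
      exact RingHom.Smooth.comp (RingHom.Smooth.of_bijective
        (ConcreteCategory.bijective_of_isIso (Scheme.ΓSpecIso (CommRingCat.of k)).inv)) h1
    exact (h2 : Algebra.Smooth k A).formallySmooth
  have hnil : IsNilpotent (RingHom.ker (q : R →+* A)) := by
    refine ⟨2, ?_⟩
    refine le_bot_iff.1 (le_trans (Ideal.pow_right_mono hd.ker_le 2) ?_)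
    rw [← Ideal.map_pow, pow_two, Ideal.map_le_iff_le_comap, Ideal.mul_le]
    intro y hy z hz
    rw [H9DefAut.mul_eq_zero_dual hy hz]
    exact zero_mem _
  let s := Algebra.FormallySmooth.liftOfSurjective (AlgHom.id k A) q hd.surjective hnil
  refine ⟨s.toRingHom, fun a => ?_, fun c => s.commutes c⟩
  exact DFunLike.congr_fun (Algebra.FormallySmooth.comp_liftOfSurjective (AlgHom.id k A) q hd.surjective hnil) a

theorem exists_retraction (U : AffineZariskiSite X) :
    ∃ (ρ : Γ(mid ξ, U.toOpens) → Γ(X, U.toOpens))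
      (L : Γ(Omega.sheaf x, U.toOpens) →ₗ[Γ(X, U.toOpens)] Γ(mid ξ, U.toOpens)),
      (∀ (b : Γ(X, U.toOpens)), ρ (b • eU ξ U) = b) ∧
      (∀ w, (proj ξ).app U.toOpens (L w) = w) ∧
      ∀ v, v = ρ v • eU ξ U + L ((proj ξ).app U.toOpens v) := by
  obtain ⟨s, hs, hsc⟩ := exists_section ξ U
  let V := imOpen ξ U.toOpens
  let hle : U.toOpens ≤ ξ.i ⁻¹ᵁ V := (preimage_imOpen ξ U.toOpens).ge
  let q := (ξ.i.appLE V U.toOpens hle).hom
  let P := ofSch ξ
  let a := secA ξ V
  have hd := isDef_sec ξ U (preimage_imOpen ξ U.toOpens)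
  have hcanc : ∀ {z z' : Γ(ξ.total, V)}, a H9DefAut.eps * z = a H9DefAut.eps * z' → q z = q z' :=
    fun e => H9DefAut.eps_cancel P U e
  have hb : ∀ r, ∃ b, r = s (q r) + a H9DefAut.eps * b := fun r => by
    have h0 := hd.ker_le (x := r - s (q r)) (by rw [RingHom.mem_ker, map_sub, hs, sub_self])
    rw [H9DefAut.maximalIdeal_dual, Ideal.map_span, Set.image_singleton, Ideal.mem_span_singleton'] at h0
    obtain ⟨b, hb⟩ := h0
    exact ⟨b, by rw [mul_comm, hb]; abel⟩
  choose b hb using hb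
  have hε0 : a H9DefAut.eps * a H9DefAut.eps = 0 := by
    rw [← map_mul, H9DefAut.mul_eq_zero_dual H9DefAut.eps_mem H9DefAut.eps_mem, map_zero]
  have hqε : q (a H9DefAut.eps) = 0 :=
    (hd.comm _).trans ((congrArg _ ((Art.mem_maximalIdeal_iff _ _).1 H9DefAut.eps_mem)).trans (map_zero _))
  have hD : ∀ r a₀ b₀, r = s a₀ + a H9DefAut.eps * b₀ → q r = a₀ ∧ q (b r) = q b₀ := fun r a₀ b₀ h => by
    have h1 : q r = a₀ := by rw [h, map_add, map_mul, hqε, zero_mul, add_zero]; exact hs a₀
    refine ⟨h1, hcanc ?_⟩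
    have h2 := hb r
    rw [h1] at h2
    exact add_left_cancel (h2.symm.trans h)
  let δ : Γ(ξ.total, V) →+ Γ(X, U.toOpens) := AddMonoidHom.mk' (fun r => q (b r)) fun r r' => by
    rw [← map_add]
    exact (hD (r + r') (q r + q r') (b r + b r') (by
      conv_lhs => rw [hb r, hb r']
      rw [map_add]; ring)).2
  letI : Module Γ(ξ.total, V) Γ(X, U.toOpens) := Module.compHom _ q
  have hV : IsAffineOpen V := isAffineOpen_imOpen ξ U
  obtain ⟨M₀, hM₀⟩ := exists_lin_of_derivation (tb ξ) hV (isAffineOpen_top _) (le_top : V ≤ _ ⁻¹ᵁ ⊤) δ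
    (fun r r' => by
      change q (b (r * r')) = q r * q (b r') + q r' * q (b r)
      refine ((hD (r * r') (q r * q r') (s (q r) * b r' + s (q r') * b r) ?_).2).trans ?_
      · conv_lhs => rw [hb r, hb r']
        rw [map_mul]
        linear_combination (b r * b r') * hε0
      · rw [map_add, map_mul, map_mul, show q (s (q r)) = q r from hs _, show q (s (q r')) = q r' from hs _])
    (fun c => by
      obtain ⟨t, rfl⟩ : ∃ t : k, (Scheme.ΓSpecIso (CommRingCat.of k)).inv t = c :=
        ⟨(Scheme.ΓSpecIso (CommRingCat.of k)).hom c, by rw [← ConcreteCategory.comp_apply, Iso.hom_inv_id]; rfl⟩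
      rw [← secA_algebraMap]
      exact ((hD _ (str x U t) 0 (by rw [mul_zero, add_zero, hsc])).2).trans (map_zero q))
  letI : Algebra Γ(ξ.total, V) Γ(X, U.toOpens) := q.toAlgebra
  letI : Module Γ(ξ.total, V) Γ(mid ξ, U.toOpens) := Module.compHom _ q
  haveI : IsScalarTower Γ(ξ.total, V) Γ(X, U.toOpens) Γ(mid ξ, U.toOpens) := ⟨fun r c m => mul_smul (q r) c m⟩
  let l : Γ(Omega.sheaf (tb ξ), V) →ₗ[Γ(ξ.total, V)] Γ(mid ξ, U.toOpens) :=
    { toFun := QCoh.pullSec ξ.i (Omega.sheaf (tb ξ)) hle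
      map_add' := QCoh.pullSec_add ξ.i _ hle
      map_smul' := pullSec_smul' ξ hle }
  have hbc : IsBaseChange Γ(X, U.toOpens) l :=
    QCoh.isBaseChange_pullback hV ξ.i U.2 (OmegaUniv.isQCoh_omega (tb ξ)) hle (fun _ => rfl) l fun _ => rfl
  let ρ := hbc.lift M₀
  have hρd : ∀ r, ρ (dP ξ hle r) = q (b r) := fun r => (hbc.lift_eq M₀ _).trans (hM₀ r)
  have hρe : ρ (eU ξ U) = 1 := (hρd _).trans (((hD _ 0 1 (by rw [map_zero, zero_add, mul_one])).2).trans (map_one q))
  obtain ⟨L, hL⟩ := exists_lin_of_derivation x U.2 (isAffineOpen_top _) (le_top : U.toOpens ≤ _ ⁻¹ᵁ ⊤)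
    (AddMonoidHom.mk' (fun c => dP ξ hle (s c)) fun c c' => by rw [map_add, dP_add])
    (fun c c' => by
      change dP ξ hle (s (c * c')) = c • dP ξ hle (s c') + c' • dP ξ hle (s c)
      rw [map_mul, dP_mul, hs, hs])
    (fun c => by
      obtain ⟨t, rfl⟩ : ∃ t : k, (Scheme.ΓSpecIso (CommRingCat.of k)).inv t = c :=
        ⟨(Scheme.ΓSpecIso (CommRingCat.of k)).hom c, by rw [← ConcreteCategory.comp_apply, Iso.hom_inv_id]; rfl⟩
      change dP ξ hle (s (str x U t)) = 0
      rw [hsc, dP_secA])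
  refine ⟨ρ, L, fun c => by rw [map_smul, hρe, smul_eq_mul, mul_one], fun w => ?_, fun v => ?_⟩
  · induction (OmegaUniv.good_of_affine x U.2 (isAffineOpen_top _) le_top).1 w using Submodule.span_induction with
    | mem y hy =>
      obtain ⟨c, rfl⟩ := hy
      rw [hL]
      exact (proj_dP ξ hle (s c)).trans (congrArg _ (hs c))
    | zero => rw [map_zero, map_zero]
    | add y y' _ _ h h' => rw [map_add, map_add, h, h']
    | smul c y _ h => rw [map_smul, Scheme.Modules.Hom.app_smul, h]
  · have key : ∀ m, l m = ρ (l m) • eU ξ U + L ((proj ξ).app U.toOpens (l m)) := by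
      intro m
      induction (OmegaUniv.good_of_affine (tb ξ) hV (isAffineOpen_top _) le_top).1 m using
          Submodule.span_induction with
      | mem y hy =>
        obtain ⟨r, rfl⟩ := hy
        change dP ξ hle r = ρ (dP ξ hle r) • eU ξ U + L ((proj ξ).app U.toOpens (dP ξ hle r))
        rw [hρd, proj_dP, hL]
        conv_lhs => rw [hb r, dP_add, dP_mul, show ξ.i.appLE V U.toOpens hle (a H9DefAut.eps) = 0 from hqε,
          zero_smul, zero_add]
        exact add_comm _ _
      | zero => simp only [map_zero, zero_smul, add_zero]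
      | add y y' _ _ h h' =>
        rw [map_add]
        conv_lhs => rw [h, h']
        simp only [map_add, add_smul]
        abel
      | smul r y _ h =>
        rw [map_smul]
        change q r • l y = ρ (q r • l y) • eU ξ U + L ((proj ξ).app U.toOpens (q r • l y))
        conv_lhs => rw [h]
        rw [map_smul, Scheme.Modules.Hom.app_smul, map_smul, smul_add, smul_eq_mul, mul_smul]
    induction v using hbc.inductionOn with
    | zero => simp only [map_zero, zero_smul, add_zero]
    | tmul m => exact key m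
    | smul c m h =>
      conv_lhs => rw [h]
      rw [map_smul, Scheme.Modules.Hom.app_smul, map_smul, smul_add, smul_eq_mul, mul_smul]
    | add y y' h h' =>
      conv_lhs => rw [h, h']
      simp only [map_add, add_smul]
      abel

theorem exists_smul_eU (U : AffineZariskiSite X) (v : Γ(mid ξ, U.toOpens))
    (hv : (proj ξ).app U.toOpens v = 0) : ∃ r : Γ(X, U.toOpens), r • eU ξ U = v := by
  obtain ⟨ρ, L, -, -, h⟩ := exists_retraction ξ U
  refine ⟨ρ v, ?_⟩
  have h1 := h v
  rw [hv, map_zero, add_zero] at h1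
  exact h1.symm

theorem smul_eU_injective (U : AffineZariskiSite X) {r : Γ(X, U.toOpens)} (h : r • eU ξ U = 0) : r = 0 := by
  obtain ⟨ρ, L, h1, -, -⟩ := exists_retraction ξ U
  rw [← h1 r, h, ← zero_smul Γ(X, U.toOpens) (eU ξ U), h1]

theorem proj_surjective (U : AffineZariskiSite X) : Function.Surjective ((proj ξ).app U.toOpens) := fun w => by
  obtain ⟨ρ, L, -, h2, -⟩ := exists_retraction ξ U
  exact ⟨L w, h2 w⟩

/-- The inclusion of `O`. -/
def incl : Coh.structureModule X ⟶ mid ξ :=
  InvX.ofSect (dP ξ (V := ⊤) le_top (secA ξ ⊤ H9DefAut.eps))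

omit [Smooth x] in
theorem incl_one (U : AffineZariskiSite X) : (incl ξ).app U.toOpens (one U.toOpens) = eU ξ U := by
  refine (Eq.trans (b := (1 : Γ(X, U.toOpens)) • AModX.res (mid ξ) (le_top : U.toOpens ≤ ⊤) _) rfl
    (one_smul _ _)).trans ?_
  exact (dP_res ξ _ (preimage_imOpen ξ U.toOpens).ge le_top (le_top : imOpen ξ U.toOpens ≤ ⊤) _).trans
    (congrArg (dP ξ _) (secA_res ξ _ _))

omit [Smooth x] in
theorem incl_app (U : AffineZariskiSite X) (r : Γ(Coh.structureModule X, U.toOpens)) :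
    (incl ξ).app U.toOpens r = OmegaSh.fnSect X U.toOpens r • eU ξ U := by
  conv_lhs => rw [eq_smul_one U.toOpens r]
  rw [Scheme.Modules.Hom.app_smul, incl_one]

theorem exists_shortExact : ∃ w : incl ξ ≫ proj ξ = 0, (ShortComplex.mk (incl ξ) (proj ξ) w).ShortExact := by
  have w : incl ξ ≫ proj ξ = 0 := hom_ext_affine fun U r => by
    rw [Scheme.Modules.Hom.comp_app, ConcreteCategory.comp_apply, incl_app, Scheme.Modules.Hom.app_smul,
      proj_eU, smul_zero, Scheme.Modules.Hom.zero_app]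
    rfl
  refine ⟨w, ?_⟩
  haveI hm : Mono (incl ξ) := Preadditive.mono_of_cancel_zero _ fun {T} φ hφ => hom_ext_affine fun U t => by
    have h0 : (incl ξ).app U.toOpens (φ.app U.toOpens t) = 0 := by
      rw [← ConcreteCategory.comp_apply, ← Scheme.Modules.Hom.comp_app, hφ, Scheme.Modules.Hom.zero_app]
      rfl
    rw [incl_app] at h0
    rw [Scheme.Modules.Hom.zero_app]
    exact (congrArg (OmegaSh.strSect X U.toOpens) (smul_eU_injective ξ U h0)).trans (map_zero _)
  haveI he : Epi (proj ξ) := Preadditive.epi_of_cancel_zero _ fun {T} ψ hψ => hom_ext_affine fun U t => by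
    obtain ⟨v, rfl⟩ := proj_surjective ξ U t
    rw [← ConcreteCategory.comp_apply, ← Scheme.Modules.Hom.comp_app, hψ, Scheme.Modules.Hom.zero_app,
      Scheme.Modules.Hom.zero_app]
    rfl
  refine { exact := (ShortComplex.exact_iff_epi_kernel_lift _).2 ?_ }
  let κ : Coh.structureModule X ⟶ kernel (proj ξ) := kernel.lift (proj ξ) (incl ξ) w
  change Epi κ
  refine Preadditive.epi_of_cancel_zero _ fun {T} ψ hψ => hom_ext_affine fun U t => ?_
  obtain ⟨r, hr⟩ := exists_smul_eU ξ U ((kernel.ι (proj ξ)).app U.toOpens t) (by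
    rw [← ConcreteCategory.comp_apply, ← Scheme.Modules.Hom.comp_app, kernel.condition,
      Scheme.Modules.Hom.zero_app]
    rfl)
  have ht : κ.app U.toOpens (OmegaSh.strSect X U.toOpens r) = t := by
    refine ZClosLib.app_injective_of_mono (kernel.ι (proj ξ)) U.toOpens ?_
    rw [← ConcreteCategory.comp_apply, ← Scheme.Modules.Hom.comp_app, kernel.lift_ι, incl_app]
    exact hr
  rw [← ht, ← ConcreteCategory.comp_apply, ← Scheme.Modules.Hom.comp_app, hψ, Scheme.Modules.Hom.zero_app,
    Scheme.Modules.Hom.zero_app]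
  rfl

section Class

variable {X : Scheme.{u}} [X.Over (Spec (CommRingCat.of k))] [QuasiSeparated (X ↘ Spec (CommRingCat.of k))]
  [Smooth (X ↘ Spec (CommRingCat.of k))]
  (ξ : DefSch X (X ↘ Spec (CommRingCat.of k)) (Art.dual k k))

attribute [local instance 10] SqExt.opModule SqExt.opCentral

theorem exists_defClass_eq : ∃ (w : incl ξ ≫ proj ξ = 0)
    (hS : (ShortComplex.mk (incl ξ) (proj ξ) w).ShortExact), defClass (incl ξ) (proj ξ) w hS = ξ.cl := by
  obtain ⟨w, hS⟩ := exists_shortExact ξ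
  refine ⟨w, hS, ?_⟩
  let F := fam1 (incl ξ) (proj ξ) w hS
  let φ : PHom (𝟙 (Art.dual k k)) (ofSch ξ) (F.pdef dualBasis) :=
    { app :=
        { app := fun U => CommRingCat.ofHom
            { toFun := fun r =>
                (⟨(inl (ξ.i.appLE _ _ (preimage_imOpen ξ U.unop.toOpens).ge r) +
                    inr (dP ξ (preimage_imOpen ξ U.unop.toOpens).ge r) :
                    TrivSqZeroExt Γ(X, U.unop.toOpens) Γ(mid ξ, U.unop.toOpens)), by
                  change (proj ξ).app U.unop.toOpens (snd _) = ExtFam.dU U.unop (fst _)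
                  simp only [snd_add, snd_inl, snd_inr, zero_add, fst_add, fst_inl, fst_inr, add_zero]
                  exact proj_dP ξ _ r⟩ : F.ring U.unop)
              map_one' := F.ring_ext (by simp) (by
                simp only [OneMemClass.coe_one, snd_one, snd_add, snd_inl, snd_inr, zero_add]
                have h := dP_mul ξ (preimage_imOpen ξ U.unop.toOpens).ge 1 1
                rw [one_mul, map_one, one_smul] at h
                exact left_eq_add.1 h)
              map_mul' := fun r r' => F.ring_ext (by simp) (by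
                simp only [Subring.coe_mul, snd_mul, snd_add, snd_inl, snd_inr, zero_add, fst_add, fst_inl,
                  fst_inr, add_zero, op_smul_eq_smul]
                exact dP_mul ξ _ r r')
              map_zero' := F.ring_ext (by simp) (by
                simp only [ZeroMemClass.coe_zero, snd_zero, snd_add, snd_inl, snd_inr, zero_add]
                have h := dP_add ξ (preimage_imOpen ξ U.unop.toOpens).ge 0 0
                rw [add_zero] at h
                exact left_eq_add.1 h)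
              map_add' := fun r r' => F.ring_ext (by simp) (by
                simp only [Subring.coe_add, snd_add, snd_inl, snd_inr, zero_add]
                exact dP_add ξ _ r r') }
          naturality := fun U V f => CommRingCat.hom_ext (RingHom.ext fun r => F.ring_ext (by
              change fst (inl _ + inr _ : TrivSqZeroExt _ _) = fst (F.res f.unop.le ⟨_, _⟩).1
              rw [ExtFam.fst_res]
              simp only [fst_add, fst_inl, fst_inr, add_zero]
              exact ConcreteCategory.congr_hom ((ofSch ξ).q.naturality f) r) (by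
              change snd (inl _ + inr _ : TrivSqZeroExt _ _) = snd (F.res f.unop.le ⟨_, _⟩).1
              rw [ExtFam.snd_res]
              simp only [snd_add, snd_inl, snd_inr, zero_add]
              exact (dP_res ξ _ _ _ (imOpen_mono ξ (AffineZariskiSite.toOpens_mono f.unop.le)) r).symm)) }
      comm := fun U c => F.ring_ext (by
          change fst (inl _ + inr _ : TrivSqZeroExt _ _) = fst (F.coeff dualBasis U.unop c).1
          rw [ExtFam.fst_coeff]
          simp only [fst_add, fst_inl, fst_inr, add_zero]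
          exact ((ofSch ξ).isDef U).comm c) (by
          change snd (inl _ + inr _ : TrivSqZeroExt _ _) = snd (F.coeff dualBasis U.unop c).1
          rw [ExtFam.snd_coeff, Fin.sum_univ_one]
          simp only [snd_add, snd_inl, snd_inr, zero_add]
          have hc := dualBasis.decomp c
          rw [Fin.sum_univ_one] at hc
          have hy : dualBasis.y 0 = (H9DefAut.eps : Art.dual k k) := rfl
          rw [hy, Algebra.smul_def] at hc
          let h := (preimage_imOpen ξ U.unop.toOpens).ge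
          change dP ξ h (secA ξ _ c) = _
          conv_lhs => rw [hc]
          rw [map_add, map_mul, dP_add, dP_secA, zero_add, dP_mul, dP_secA, smul_zero, add_zero,
            fam1_e, incl_one]
          refine congrArg₂ (· • ·) ?_ rfl
          exact ((ofSch ξ).isDef U).comm _ |>.trans (congrArg _ ((Art.dual k k).res.commutes _)))
      q_app := NatTrans.ext (funext fun U => CommRingCat.hom_ext (RingHom.ext fun r => by
        change fst (inl (ξ.i.appLE _ _ (preimage_imOpen ξ U.unop.toOpens).ge r) +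
          inr (dP ξ (preimage_imOpen ξ U.unop.toOpens).ge r) :
            TrivSqZeroExt Γ(X, U.unop.toOpens) Γ(mid ξ, U.unop.toOpens)) = _
        simp only [fst_add, fst_inl, fst_inr, add_zero]
        rfl)) }
  refine (map_cl_pHom _ φ).symm.trans ?_
  rw [CategoryTheory.Functor.map_id]
  exact Quotient.sound ⟨counit ξ⟩

variable [HasExt.{u} X.Modules]

theorem exists_psi_eq : ∃ c, psi X c = ξ.cl := by
  obtain ⟨w, hS, h⟩ := exists_defClass_eq ξ
  exact ⟨hS.extClass, (psi_extClass _ _ w hS).trans h⟩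

theorem psiLin_bijective [TangentStr (defFunctor (Λ := k) X (X ↘ Spec (CommRingCat.of k)))] :
    Function.Bijective (psiLin (k := k) X) := by
  refine ⟨psiLin_injective, fun z => ?_⟩
  obtain ⟨η, hη⟩ := cl_surjective (TangentSpace.val z)
  obtain ⟨c, hc⟩ := exists_psi_eq η
  exact ⟨c, hc.trans hη⟩

end Class

end Groth.Agent.H9DefExt
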